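import Mathlib
import Cfsg.Agent.S1364
import Cfsg.Agent.S1430

/-!
# CALL S1357 piece FPF (helper19, for helper1)
-/

set_option autoImplicit false

namespace Cfsg.Agent.Helper19

open Cfsg Subgroup

universe u

variable {G : Type u} [Group G] [Finite G]

/-- FPF. `K` acts fixed-point-freely on `D`: `d ∈ M_σ ∩ C(k) = K*` (S1430, clause 1, with
`hKU.hall`), `K* ≤ M_F` (S1364, clause 3), `D ∩ M_F = 1`. -/
theorem bg152_fpf (hG : IsMinSimpleOddOrder G) {M K U D : Subgroup G} (hM : IsCoatom M)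
    (hKU : IsSigmaDecomposition M K U) (hK1 : K ≠ ⊥) (hD : D ≤ sigmaCore M)
    (hDF : D ⊓ fittingHallOf M = ⊥) :
    ∀ k ∈ K, k ≠ 1 → ∀ d ∈ D, k * d = d * k → d = 1 := by
  intro k hk hk1 d hd hkd
  have h := (Cfsg.Agent.S1430.result hG M hM K hKU.hall hK1).1 k hk hk1
  have h2 := (Cfsg.Agent.S1364.result hG M hM K U hKU hK1).2.2.1
  have hdc : d ∈ sigmaCore M ⊓ centralizer ({k} : Set G) := by
    refine Subgroup.mem_inf.mpr ⟨hD hd, ?_⟩
    rw [Subgroup.mem_centralizer_iff]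
    intro x hx
    rw [Set.mem_singleton_iff] at hx
    rw [hx]
    exact hkd
  rw [h] at hdc
  have hdF : d ∈ fittingHallOf M := h2 hdc
  have hbot : d ∈ D ⊓ fittingHallOf M := Subgroup.mem_inf.mpr ⟨hd, hdF⟩
  rw [hDF] at hbot
  exact Subgroup.mem_bot.mp hbot

end Cfsg.Agent.Helper19
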