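import Mathlib
import Cfsg.Agent.S1430

/-!
# CALL S1357 piece PR (helper19, for helper1)
-/

set_option autoImplicit false

namespace Cfsg.Agent.Helper19

open Cfsg Subgroup

universe u

variable {G : Type u} [Group G] [Finite G]

/-- PR. Prime action of `K` on any `T ≤ M_σ` (S1430, clause 1): `T ⊓ C(k) = T ⊓ (M_σ ⊓ C(k)) =
T ⊓ (M_σ ⊓ C(K)) = T ⊓ C(K)`. -/
theorem bg152_prime_action (hG : IsMinSimpleOddOrder G) {M K U T : Subgroup G} (hM : IsCoatom M)
    (hKU : IsSigmaDecomposition M K U) (hK1 : K ≠ ⊥) (hT : T ≤ sigmaCore M) :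
    ∀ k ∈ K, k ≠ 1 → T ⊓ centralizer ({k} : Set G) = T ⊓ centralizer (K : Set G) := by
  intro k hk hk1
  have h := (Cfsg.Agent.S1430.result hG M hM K hKU.hall hK1).1 k hk hk1
  calc T ⊓ centralizer ({k} : Set G) = T ⊓ (sigmaCore M ⊓ centralizer ({k} : Set G)) := by
        rw [← inf_assoc, inf_eq_left.mpr hT]
    _ = T ⊓ (sigmaCore M ⊓ centralizer (K : Set G)) := by rw [h]
    _ = T ⊓ centralizer (K : Set G) := by rw [← inf_assoc, inf_eq_left.mpr hT]

end Cfsg.Agent.Helper19
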