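/-
CALL BG18 (helper25; row S1538), piece A1, by helper19.
-/
import Cfsg.Agent.Helper1.BGUniqA
import Cfsg.Agent.S1372

set_option autoImplicit false

namespace Cfsg.Agent.Helper19

open Cfsg Subgroup

universe u

variable {G : Type u} [Group G] [Finite G]

/-- A1. `K ≠ 1`, `U ≠ 1`: if `x` and `g x g⁻¹` are in `M_σ`, `x ≠ 1`, then `g ∈ M`.
(S1372: `F(M)` is a TI-subset and contains `M_σ`, so `g ∈ N_G(F(M))`; `N_G(F(M)) = M`.) -/
theorem bg18_sigma_conj_mem (hG : IsMinSimpleOddOrder G) {M K U : Subgroup G} (hM : IsCoatom M)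
    (hKU : IsSigmaDecomposition M K U) (hK1 : K ≠ ⊥) (hU1 : U ≠ ⊥) {x g : G}
    (hx : x ∈ sigmaCore M) (hx1 : x ≠ 1) (hgx : g * x * g⁻¹ ∈ sigmaCore M) : g ∈ M := by
  obtain ⟨-, hTI, hσF⟩ := Cfsg.Agent.S1372.result hG M hM K U hKU hK1 hU1
  have hgN : g ∈ normalizer (fittingOf M : Set G) := by
    by_contra hg
    exact hx1 (hTI g hg x (hσF hx) (hσF hgx))
  have hF1 : fittingOf M ≠ ⊥ := by
    intro h
    have hxF : x ∈ fittingOf M := hσF hx
    rw [h, Subgroup.mem_bot] at hxF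
    exact hx1 hxF
  have hFM : fittingOf M ≤ M := Subgroup.map_subtype_le _
  have hMN : M ≤ normalizer (fittingOf M : Set G) :=
    (Subgroup.le_normalizer).trans (Cfsg.Agent.Helper1.bgu_normalizer_le_normalizer_fittingOf M)
  have : IsSimpleGroup G := hG.2.1
  have hNM : normalizer (fittingOf M : Set G) = M := by
    rcases hM.le_iff.mp hMN with h | h
    · exfalso
      have hn : (fittingOf M).Normal := Subgroup.normalizer_eq_top_iff.mp h
      rcases hn.eq_bot_or_eq_top with h1 | h1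
      · exact hF1 h1
      · exact hM.1 (top_le_iff.mp (h1 ▸ hFM))
    · exact h
  rw [← hNM]
  exact hgN

end Cfsg.Agent.Helper19
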