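/-
CALL BG18 (helper25; row S1538), piece CONJ, by helper19.
Uses helper72's `bg38_W_conj` (CALL BG38 piece WCONJ, same row) and supplies its pure hypothesis.
-/
import Cfsg.Agent.Helper72.BG38WCONJ

set_option autoImplicit false

namespace Cfsg.Agent.Helper19

open Cfsg Subgroup

universe u

variable {G : Type u} [Group G] [Finite G]

omit [Finite G] in
/-- Conjugating `N ⊓ C(k)` by an element normalising `N`. -/
theorem bg18_inf_centralizer_conj {N : Subgroup G} {n k : G} (hn : n ∈ normalizer (N : Set G)) :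
    N ⊓ centralizer ({n * k * n⁻¹} : Set G) =
      (N ⊓ centralizer ({k} : Set G)).map (MulAut.conj n).toMonoidHom := by
  ext y
  constructor
  · intro hy
    obtain ⟨hyN, hyC⟩ := Subgroup.mem_inf.mp hy
    have hn' : n⁻¹ ∈ normalizer (N : Set G) := inv_mem hn
    have hy'N : n⁻¹ * y * n ∈ N := by
      have h := (Subgroup.mem_normalizer_iff.mp hn' y).mp hyN
      rwa [inv_inv] at h
    have hyk : (n * k * n⁻¹) * y = y * (n * k * n⁻¹) :=
      Subgroup.mem_centralizer_iff.mp hyC _ (Set.mem_singleton _)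
    refine ⟨n⁻¹ * y * n, Subgroup.mem_inf.mpr ⟨hy'N, ?_⟩, ?_⟩
    · rw [Subgroup.mem_centralizer_iff]
      intro h hh
      rw [Set.mem_singleton_iff] at hh
      subst hh
      calc h * (n⁻¹ * y * n) = n⁻¹ * ((n * h * n⁻¹) * y) * n := by group
        _ = n⁻¹ * (y * (n * h * n⁻¹)) * n := by rw [hyk]
        _ = n⁻¹ * y * n * h := by group
    · show n * (n⁻¹ * y * n) * n⁻¹ = y
      group
  · rintro ⟨y', hy', rfl⟩
    obtain ⟨hy'N, hy'C⟩ := Subgroup.mem_inf.mp hy'
    have hyk : k * y' = y' * k := Subgroup.mem_centralizer_iff.mp hy'C _ (Set.mem_singleton _)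
    refine Subgroup.mem_inf.mpr ⟨(Subgroup.mem_normalizer_iff.mp hn y').mp hy'N, ?_⟩
    rw [Subgroup.mem_centralizer_iff]
    intro h hh
    rw [Set.mem_singleton_iff] at hh
    subst hh
    show n * k * n⁻¹ * (n * y' * n⁻¹) = n * y' * n⁻¹ * (n * k * n⁻¹)
    calc n * k * n⁻¹ * (n * y' * n⁻¹) = n * (k * y') * n⁻¹ := by group
      _ = n * (y' * k) * n⁻¹ := by rw [hyk]
      _ = n * y' * n⁻¹ * (n * k * n⁻¹) := by group

/-- CONJ. Any type-P data `(W₁, U', W₂)` of `M` is `M`-conjugate to `(K, K*)`. -/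
theorem bg18_typeP_conj (hG : IsMinSimpleOddOrder G) {M K U : Subgroup G} (hM : IsCoatom M)
    (hKU : IsSigmaDecomposition M K U) (hK1 : K ≠ ⊥) {W₁ U' W₂ : Subgroup G}
    (hP : IsTypePWith M W₁ U' W₂) :
    ∃ n ∈ M, W₁ = K.map (MulAut.conj n).toMonoidHom ∧
      W₂ = (sigmaCore M ⊓ centralizer (K : Set G)).map (MulAut.conj n).toMonoidHom :=
  Cfsg.Agent.Helper72.bg38_W_conj hG hM hKU hK1 hP (fun hn => bg18_inf_centralizer_conj hn)

end Cfsg.Agent.Helper19
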