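/-
CALL BG18 (helper25; row S1538), piece NT1 (double), by helper19.
`K ≠ 1`: `M` is not of Type I.  A prime `r ∣ |K|` lies in `κ(M)`, so `r ∤ |M_F|` and the complement
`U'` of `M_F`, hence `U₀`, has an element `u` of order `r`; an element `k` of order `r` of `K`
centralises `K* ≠ 1`, `K* ≤ M_F` (S1364); the Sylow `r`-subgroups of `M` are cyclic and conjugate,
so `u` is a power of a conjugate of `k` and centralises a non-identity element of `M_F`.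
-/
import Mathlib
import Cfsg.Agent.Helper23.FittingHall
import Cfsg.Agent.Helper23.Trans
import Cfsg.Agent.Helper54.BG14T2
import Cfsg.Agent.Helper11.BG38EXP
import Cfsg.Agent.Helper11.BG38CYCP
import Cfsg.Agent.S1364

set_option autoImplicit false

namespace Cfsg.Agent.Helper19

open Cfsg Subgroup

universe u

variable {G : Type u} [Group G] [Finite G]

/-- NT1. `K ≠ 1`: `M` is not of Type I. -/
theorem bg18_not_I (hG : IsMinSimpleOddOrder G) {M K U : Subgroup G} (hM : IsCoatom M)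
    (hKU : IsSigmaDecomposition M K U) (hK1 : K ≠ ⊥) : ¬ IsOfTypeI M := by
  classical
  rintro ⟨⟨-, -, -, -, Uc, -, hcompl, -, U₀, hU₀, hexpU, hfpf⟩, -⟩
  -- a prime `r` dividing `|K|`
  have hKcard : Nat.card K ≠ 1 := fun h => hK1 (Subgroup.card_eq_one.mp h)
  obtain ⟨r, hrp, hrK⟩ := Nat.exists_prime_and_dvd hKcard
  have hr : r ∈ kappa M := hKU.hall.2.1 r hrp hrK
  have : Fact r.Prime := ⟨hrp⟩
  have hKM : K ≤ M := hKU.hall.1
  -- `r ∤ |M_F|`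
  have hFσ : fittingHallOf M ≤ sigmaCore M := Cfsg.Agent.Helper54.bg14t_fittingHall_le hG hM
  have hrnF : ¬ r ∣ Nat.card (fittingHall ↥M) := by
    intro h
    rw [← Cfsg.Agent.Helper23.card_fittingHallOf M] at h
    have h2 : r ∣ Nat.card (sigmaCore M) := h.trans (Subgroup.card_dvd_of_le hFσ)
    exact hr.2.2.1 (Cfsg.Agent.Helper23.mem_of_dvd_card_piCoreOf (sigma M) M hrp h2)
  have hcard : Nat.card (fittingHall ↥M) * Nat.card Uc = Nat.card M := hcompl.card_mul_card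
  have hrU : r ∣ Nat.card Uc := by
    have h1 : r ∣ Nat.card (fittingHall ↥M) * Nat.card Uc := by
      rw [hcard]
      exact hr.2.1
    exact (hrp.dvd_mul.mp h1).resolve_left hrnF
  obtain ⟨u, huU₀, huo⟩ := Cfsg.Agent.Helper11.bg38_exists_order (A := U₀) (B := Uc) hexpU hrp hrU
  have hu1 : u ≠ 1 := by
    intro h
    rw [h, orderOf_one] at huo
    exact hrp.one_lt.ne huo
  have hzp : IsPGroup r (zpowers u) := by
    refine IsPGroup.of_card (n := 1) ?_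
    rw [Nat.card_zpowers, huo, pow_one]
  obtain ⟨P, hP⟩ := hzp.exists_le_sylow
  have hPc : IsCyclic ↥(P : Subgroup ↥M) := (hr.2.2.2 P).1
  -- an element `k` of order `r` in `K`
  obtain ⟨k, hkK, hko⟩ : ∃ k ∈ K, orderOf k = r := by
    obtain ⟨k', hk'⟩ := exists_prime_orderOf_dvd_card' r hrK
    exact ⟨k'.1, k'.2, by rw [← hk', Subgroup.orderOf_coe]⟩
  have hkMo : orderOf (⟨k, hKM hkK⟩ : ↥M) = r := by rw [← hko, Subgroup.orderOf_mk]
  have hzpk : IsPGroup r (zpowers (⟨k, hKM hkK⟩ : ↥M)) := by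
    refine IsPGroup.of_card (n := 1) ?_
    rw [Nat.card_zpowers, hkMo, pow_one]
  obtain ⟨P', hP'⟩ := hzpk.exists_le_sylow
  obtain ⟨m, hm⟩ := MulAction.exists_smul_eq ↥M P' P
  have hkP' : (⟨k, hKM hkK⟩ : ↥M) ∈ (P' : Subgroup ↥M) := hP' (mem_zpowers _)
  have hxP : m * (⟨k, hKM hkK⟩ : ↥M) * m⁻¹ ∈ (P : Subgroup ↥M) := by
    rw [← hm, Sylow.coe_subgroup_smul, Subgroup.mem_pointwise_smul_iff_inv_smul_mem]
    have e : (MulAut.conj m)⁻¹ • (m * (⟨k, hKM hkK⟩ : ↥M) * m⁻¹) = (⟨k, hKM hkK⟩ : ↥M) := by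
      simp [MulAut.smul_def, mul_assoc]
    rw [e]
    exact hkP'
  have hk1 : (⟨k, hKM hkK⟩ : ↥M) ≠ 1 := by
    intro h
    rw [h, orderOf_one] at hkMo
    exact hrp.one_lt.ne hkMo
  have hx1 : m * (⟨k, hKM hkK⟩ : ↥M) * m⁻¹ ≠ 1 := by
    intro h
    apply hk1
    have h2 : (⟨k, hKM hkK⟩ : ↥M) = m⁻¹ * (m * (⟨k, hKM hkK⟩ : ↥M) * m⁻¹) * m := by group
    rw [h2, h]
    group
  -- `K* ≠ 1`, `K* ≤ M_F`
  obtain ⟨-, hKs1, hKsF, -⟩ := Cfsg.Agent.S1364.result hG M hM K U hKU hK1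
  obtain ⟨y, hyKs, hy1⟩ : ∃ y ∈ sigmaCore M ⊓ centralizer (K : Set G), y ≠ 1 := by
    by_contra hcon
    apply hKs1
    rw [eq_bot_iff]
    intro x hx
    by_contra hx1
    exact hcon ⟨x, hx, fun h => hx1 (Subgroup.mem_bot.mpr h)⟩
  obtain ⟨y', hy', hyy'⟩ := hKsF hyKs
  have hyC : y ∈ centralizer (K : Set G) := (Subgroup.mem_inf.mp hyKs).2
  have hky : k * y = y * k := Subgroup.mem_centralizer_iff.mp hyC k hkK
  have hky' : (⟨k, hKM hkK⟩ : ↥M) * y' = y' * (⟨k, hKM hkK⟩ : ↥M) := by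
    apply Subtype.ext
    have h1 : (((⟨k, hKM hkK⟩ : ↥M) * y' : ↥M) : G) = k * y := by
      rw [← hyy']
      rfl
    have h2 : ((y' * (⟨k, hKM hkK⟩ : ↥M) : ↥M) : G) = y * k := by
      rw [← hyy']
      rfl
    rw [h1, h2]
    exact hky
  have hy'1 : y' ≠ 1 := by
    intro h
    apply hy1
    rw [← hyy', h]
    rfl
  have hyF : m * y' * m⁻¹ ∈ fittingHall ↥M := (fittingHall_normal ↥M).conj_mem y' hy' m
  have hyF1 : m * y' * m⁻¹ ≠ 1 := by
    intro h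
    apply hy'1
    have h2 : y' = m⁻¹ * (m * y' * m⁻¹) * m := by group
    rw [h2, h]
    group
  have hxy : (m * (⟨k, hKM hkK⟩ : ↥M) * m⁻¹) * (m * y' * m⁻¹) =
      (m * y' * m⁻¹) * (m * (⟨k, hKM hkK⟩ : ↥M) * m⁻¹) := by
    calc (m * (⟨k, hKM hkK⟩ : ↥M) * m⁻¹) * (m * y' * m⁻¹)
        = m * ((⟨k, hKM hkK⟩ : ↥M) * y') * m⁻¹ := by group
      _ = m * (y' * (⟨k, hKM hkK⟩ : ↥M)) * m⁻¹ := by rw [hky']
      _ = (m * y' * m⁻¹) * (m * (⟨k, hKM hkK⟩ : ↥M) * m⁻¹) := by group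
  have hux : u ∈ zpowers (m * (⟨k, hKM hkK⟩ : ↥M) * m⁻¹) :=
    Cfsg.Agent.Helper11.bg38_mem_zpowers hrp (P := (P : Subgroup ↥M)) P.isPGroup' hPc
      (hP (mem_zpowers u)) huo hxP hx1
  obtain ⟨j, hj⟩ := mem_zpowers_iff.mp hux
  have hcomm2 : u * (m * y' * m⁻¹) = (m * y' * m⁻¹) * u := by
    rw [← hj]
    exact ((Commute.zpow_left (show Commute (m * (⟨k, hKM hkK⟩ : ↥M) * m⁻¹) (m * y' * m⁻¹)
      from hxy) j)).eq
  exact hyF1 (hfpf u huU₀ hu1 _ hyF hcomm2)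

end Cfsg.Agent.Helper19
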