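/-
CALL BG18 (helper25; row S1538), piece NT34, by helper19.
-/
import Cfsg.Agent.Helper61.BG16U0

set_option autoImplicit false

namespace Cfsg.Agent.Helper19

open Cfsg Subgroup

universe u

variable {G : Type u} [Group G] [Finite G]

/-- NT34. `K ≠ 1`, `U ≠ 1`: `M` is not of Type III or IV.  (The type-P `U'` of Type III/IV has
`N_G(U') ≤ M` and is a complement of `M_F` in `M'`: `Helper61.bg16_U_eq_bot` gives `U = ⊥`.) -/
theorem bg18_not_III_IV (hG : IsMinSimpleOddOrder G) {M K U : Subgroup G} (hM : IsCoatom M)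
    (hKU : IsSigmaDecomposition M K U) (hK1 : K ≠ ⊥) (hU1 : U ≠ ⊥) :
    ¬ (IsOfTypeIII M ∨ IsOfTypeIV M) := by
  rintro (⟨W₁, U', W₂, hP, -, -, -, -, hN⟩ | ⟨W₁, U', W₂, hP, -, -, -, -, hN⟩)
  · exact hU1 (Cfsg.Agent.Helper61.bg16_U_eq_bot hG M hM K U hKU hK1 U' hP.U_compl hN)
  · exact hU1 (Cfsg.Agent.Helper61.bg16_U_eq_bot hG M hM K U hKU hK1 U' hP.U_compl hN)

end Cfsg.Agent.Helper19
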