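import Mathlib

/-!
# CALL S2045 (helper92), piece COUNT (helper19, double): counting lemma for the 3-part of Co3
-/

set_option autoImplicit false

namespace Cfsg.Agent.Helper19

/-- Piece COUNT (pure Mathlib).  `V ⊴ S` of exponent 3 with more than 81 elements, inverted by
`z`; `a, b` commuting elements of order 3 centralised by `z`, `b ∉ ⟨a⟩`.  Then `3^5 ∣ |V|` and
`3^7 ∣ |S|`. -/
theorem p3_count {S : Type*} [Group S] [Finite S] (V : Subgroup S) [V.Normal] (z a b : S)
    (hV3 : ∀ v ∈ V, v ^ 3 = 1) (hzV : ∀ v ∈ V, z * v * z⁻¹ = v⁻¹)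
    (hV : 81 < Nat.card V)
    (ha : a ^ 3 = 1) (hb : b ^ 3 = 1) (ha1 : a ≠ 1) (hba : b ∉ Subgroup.zpowers a)
    (hab : a * b = b * a) (haz : a * z = z * a) (hbz : b * z = z * b) :
    3 ^ 5 ∣ Nat.card V ∧ 3 ^ 7 ∣ Nat.card S := by
  have hfact : Fact (Nat.Prime 3) := ⟨Nat.prime_three⟩
  -- (1) `V` is a 3-group of order at least `3 ^ 5`
  have hVp : IsPGroup 3 V := by
    intro g
    refine ⟨1, ?_⟩
    apply Subtype.ext
    rw [pow_one]
    simpa using hV3 g.1 g.2
  obtain ⟨n, hn⟩ := IsPGroup.iff_card.mp hVp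
  have hn5 : 5 ≤ n := by
    by_contra hlt
    push Not at hlt
    have h34 : 3 ^ n ≤ 3 ^ 4 := Nat.pow_le_pow_right (by norm_num) (by omega)
    rw [hn] at hV
    norm_num at h34
    omega
  have h1 : 3 ^ 5 ∣ Nat.card V := by
    rw [hn]; exact pow_dvd_pow 3 hn5
  -- (2) `Q = ⟨a, b⟩`
  have hQz : ∀ x ∈ Subgroup.closure ({a, b} : Set S), Commute x z := by
    intro x hx
    induction hx using Subgroup.closure_induction with
    | mem y hy =>
      rcases hy with rfl | rfl
      · exact haz
      · exact hbz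
    | one => exact Commute.one_left _
    | mul u v _ _ hu hv => exact hu.mul_left hv
    | inv u _ hu => exact hu.inv_left
  have hQa : ∀ x ∈ Subgroup.closure ({a, b} : Set S), Commute x a ∧ Commute x b := by
    intro x hx
    induction hx using Subgroup.closure_induction with
    | mem y hy =>
      rcases hy with rfl | rfl
      · exact ⟨Commute.refl _, hab⟩
      · exact ⟨Commute.symm hab, Commute.refl _⟩
    | one => exact ⟨Commute.one_left _, Commute.one_left _⟩
    | mul u v _ _ hu hv => exact ⟨hu.1.mul_left hv.1, hu.2.mul_left hv.2⟩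
    | inv u _ hu => exact ⟨hu.1.inv_left, hu.2.inv_left⟩
  have hQcomm : ∀ x ∈ Subgroup.closure ({a, b} : Set S),
      ∀ y ∈ Subgroup.closure ({a, b} : Set S), Commute x y := by
    intro x hx y hy
    induction hy using Subgroup.closure_induction with
    | mem w hw =>
      rcases hw with rfl | rfl
      · exact (hQa x hx).1
      · exact (hQa x hx).2
    | one => exact Commute.one_right _
    | mul u v _ _ hu hv => exact hu.mul_right hv
    | inv u _ hu => exact hu.inv_right
  have hQ3 : ∀ x ∈ Subgroup.closure ({a, b} : Set S), x ^ 3 = 1 := by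
    intro x hx
    induction hx using Subgroup.closure_induction with
    | mem w hw =>
      rcases hw with rfl | rfl
      · exact ha
      · exact hb
    | one => exact one_pow _
    | mul u v hu' hv' hu hv => rw [(hQcomm u hu' v hv').mul_pow, hu, hv, one_mul]
    | inv u _ hu => rw [inv_pow, hu, inv_one]
  have hQp : IsPGroup 3 (Subgroup.closure ({a, b} : Set S)) := by
    intro g
    refine ⟨1, ?_⟩
    apply Subtype.ext
    rw [pow_one]
    simpa using hQ3 g.1 g.2
  obtain ⟨m, hm⟩ := IsPGroup.iff_card.mp hQp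
  have haQ : Subgroup.zpowers a ≤ Subgroup.closure ({a, b} : Set S) := by
    rw [Subgroup.zpowers_le]
    exact Subgroup.subset_closure (by simp)
  have hbQ : b ∈ Subgroup.closure ({a, b} : Set S) := Subgroup.subset_closure (by simp)
  have hoa : orderOf a = 3 := orderOf_eq_prime ha ha1
  have hca : Nat.card (Subgroup.zpowers a) = 3 := by rw [Nat.card_zpowers, hoa]
  have hm2 : 2 ≤ m := by
    by_contra hlt
    push Not at hlt
    have hdvd : Nat.card (Subgroup.zpowers a) ∣ Nat.card (Subgroup.closure ({a, b} : Set S)) :=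
      Subgroup.card_dvd_of_le haQ
    rw [hca, hm] at hdvd
    have hm1 : m = 1 := by
      rcases Nat.eq_zero_or_pos m with h0 | h0
      · subst h0; norm_num at hdvd
      · omega
    subst hm1
    have heq : Subgroup.zpowers a = Subgroup.closure ({a, b} : Set S) := by
      apply Subgroup.eq_of_le_of_card_ge haQ
      rw [hca, hm]; norm_num
    exact hba (heq ▸ hbQ)
  have h9 : 3 ^ 2 ∣ Nat.card (Subgroup.closure ({a, b} : Set S)) := by
    rw [hm]; exact pow_dvd_pow 3 hm2
  -- (3), (4) `Q` embeds in `S ⧸ V`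
  have hf : Function.Injective
      ((QuotientGroup.mk' V).comp (Subgroup.closure ({a, b} : Set S)).subtype) := by
    rw [injective_iff_map_eq_one]
    intro x hx
    have hxV : (x : S) ∈ V := by
      have h0 : ((x : S) : S ⧸ V) = 1 := hx
      exact (QuotientGroup.eq_one_iff _).mp h0
    have e1 := hzV _ hxV
    have e2 : z * (x : S) * z⁻¹ = x := by
      rw [← (hQz x.1 x.2).eq, mul_inv_cancel_right]
    rw [e2] at e1
    have e3 : (x : S) ^ 2 = 1 := by
      calc (x : S) ^ 2 = x * x := pow_two _
        _ = x * (x : S)⁻¹ := by rw [← e1]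
        _ = 1 := mul_inv_cancel _
    have e4 := hQ3 x.1 x.2
    have e5 : (x : S) = 1 := by
      have e6 : (x : S) ^ 3 = (x : S) ^ 2 * x := pow_succ _ 2
      rw [e4, e3, one_mul] at e6
      exact e6.symm
    exact Subtype.ext e5
  have hd : Nat.card (Subgroup.closure ({a, b} : Set S)) ∣ Nat.card (S ⧸ V) :=
    Subgroup.card_dvd_of_injective _ hf
  have hS : Nat.card S = Nat.card (S ⧸ V) * Nat.card V :=
    Subgroup.card_eq_card_quotient_mul_card_subgroup V
  refine ⟨h1, ?_⟩
  rw [hS]
  have h7 : (3 : ℕ) ^ 7 = 3 ^ 2 * 3 ^ 5 := by norm_num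
  rw [h7]
  exact mul_dvd_mul (h9.trans hd) h1

end Cfsg.Agent.Helper19
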