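import Mathlib
import Cfsg.Agent.Helper10.Thompson
import Cfsg.Agent.Helper19.Inverted
import Cfsg.Agent.Helper19.ThompsonNPC

/-!
Helper19: abstract lemmas for the `p = 2` end of Thompson's normal `p`-complement theorem
(failure of factorisation in the minimal configuration).

* `exists_inverted_hyperplane`: an elementary abelian `2`-group `E` acting nontrivially on an
  abelian group `N` of odd order has a subgroup `E₀` of index at most `2` and `1 ≠ x ∈ N`
  centralised by `E₀` and inverted by some `a ∈ E`.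
* `axb_special`: an automorphism `ξ` of odd order of an elementary abelian `2`-group `V`
  commuting with a `2`-group `𝔅` of automorphisms and fixing `C_V(𝔅)` pointwise is trivial.
* `ff_core`: `ξ` of odd order and `α` with `α² = 1`, `α ξ = ξ⁻¹ α` acting on an elementary
  abelian `2`-group `W`, with `|W : C_W(α)| ≤ 2` and `ξ` nontrivial: then `[W, ξ]` is a four-group
  on which `⟨ξ, α⟩` induces `S₃`.
-/

set_option autoImplicit false

namespace Cfsg.Agent.Helper19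

/-- if `E₀` and `c` fix `y` under conjugation, so does `E₀ ⊔ ⟨c⟩` -/
theorem conj_fix_sup {M : Type*} [Group M] (E₀ : Subgroup M) (c y : M)
    (h₀ : ∀ b ∈ E₀, b * y * b⁻¹ = y) (hc : c * y * c⁻¹ = y) :
    ∀ b ∈ E₀ ⊔ Subgroup.zpowers c, b * y * b⁻¹ = y := by
  have hle : E₀ ⊔ Subgroup.zpowers c ≤ Subgroup.centralizer ({y} : Set M) := by
    apply sup_le
    · intro b hb
      rw [Subgroup.mem_centralizer_iff]
      intro z hz
      rw [Set.mem_singleton_iff] at hz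
      rw [hz]
      exact (mul_inv_eq_iff_eq_mul.mp (h₀ b hb)).symm
    · rw [Subgroup.zpowers_le, Subgroup.mem_centralizer_iff]
      intro z hz
      rw [Set.mem_singleton_iff] at hz
      rw [hz]
      exact (mul_inv_eq_iff_eq_mul.mp hc).symm
  intro b hb
  have h1 := Subgroup.mem_centralizer_iff.mp (hle hb) y rfl
  rw [← h1]; group

/-- An elementary abelian `2`-group `E` acting nontrivially on an abelian group `N` of odd
order: there are `E₀ ≤ E` of index at most two (every `c ∈ E` lies in `E₀` or in `a⁻¹ E₀`) and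
`1 ≠ x ∈ N` centralised by `E₀` and inverted by `a ∈ E`. -/
theorem exists_inverted_hyperplane {M : Type*} [Group M] [Finite M] (N E : Subgroup M)
    (hNab : ∀ x ∈ N, ∀ y ∈ N, x * y = y * x) (hodd : Odd (Nat.card N))
    (hE2 : ∀ e ∈ E, e * e = 1) (hEab : ∀ e ∈ E, ∀ f ∈ E, e * f = f * e)
    (hEN : ∀ e ∈ E, ∀ n ∈ N, e * n * e⁻¹ ∈ N)
    (hact : ∃ e ∈ E, ∃ n ∈ N, e * n * e⁻¹ ≠ n) :
    ∃ E₀ : Subgroup M, E₀ ≤ E ∧ ∃ a ∈ E, ∃ x ∈ N, x ≠ 1 ∧ (∀ b ∈ E₀, b * x * b⁻¹ = x) ∧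
      a * x * a⁻¹ = x⁻¹ ∧ ∀ c ∈ E, c ∈ E₀ ∨ a * c ∈ E₀ := by
  classical
  let Φ : Subgroup M → Prop := fun E' => E' ≤ E ∧ ∃ n ∈ N, (∀ b ∈ E', b * n * b⁻¹ = n) ∧
    ∃ a ∈ E, a * n * a⁻¹ ≠ n
  have hΦbot : Φ ⊥ := by
    obtain ⟨e, he, n, hn, hne⟩ := hact
    refine ⟨bot_le, n, hn, fun b hb => ?_, e, he, hne⟩
    rw [Subgroup.mem_bot.mp hb]; group
  have hne : Nonempty {E' : Subgroup M // Φ E'} := ⟨⟨⊥, hΦbot⟩⟩
  obtain ⟨⟨E₀, hE₀le, n, hnN, hnfix, a, haE, han⟩, hmax⟩ := Finite.exists_max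
    (fun E' : {E' : Subgroup M // Φ E'} => Nat.card (E' : Subgroup M))
  have hmax' : ∀ E' : Subgroup M, Φ E' → E₀ ≤ E' → E' = E₀ := by
    intro E' hE' hle
    have h1 := hmax ⟨E', hE'⟩
    exact (Subgroup.eq_of_le_of_card_ge hle h1).symm
  have haa : a * a = 1 := hE2 a haE
  have hxN : a * n * a⁻¹ * n⁻¹ ∈ N := N.mul_mem (hEN a haE n hnN) (N.inv_mem hnN)
  have hx1 : a * n * a⁻¹ * n⁻¹ ≠ 1 := fun h => han (mul_inv_eq_one.mp h)
  have hxfix : ∀ b ∈ E₀, b * (a * n * a⁻¹ * n⁻¹) * b⁻¹ = a * n * a⁻¹ * n⁻¹ := by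
    intro b hb
    have h1 := hnfix b hb
    have h3 : b * a * b⁻¹ = a := by rw [hEab b (hE₀le hb) a haE]; group
    calc b * (a * n * a⁻¹ * n⁻¹) * b⁻¹
        = (b * a * b⁻¹) * (b * n * b⁻¹) * (b * a * b⁻¹)⁻¹ * (b * n * b⁻¹)⁻¹ := by group
      _ = a * n * a⁻¹ * n⁻¹ := by rw [h3, h1]
  have hxinv : a * (a * n * a⁻¹ * n⁻¹) * a⁻¹ = (a * n * a⁻¹ * n⁻¹)⁻¹ := by
    apply eq_inv_of_mul_eq_one_left
    calc a * (a * n * a⁻¹ * n⁻¹) * a⁻¹ * (a * n * a⁻¹ * n⁻¹)
        = (a * a) * n * (a * a)⁻¹ * n⁻¹ := by group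
      _ = 1 := by rw [haa]; group
  generalize a * n * a⁻¹ * n⁻¹ = x at hxN hx1 hxfix hxinv
  have hxx : a * x * a⁻¹ ≠ x := by
    intro h
    rw [hxinv] at h
    have h1 : x * x = 1 := by
      nth_rewrite 1 [← h]
      exact inv_mul_cancel x
    exact hx1 (eq_one_of_sq_of_odd N hodd hxN h1)
  refine ⟨E₀, hE₀le, a, haE, x, hxN, hx1, hxfix, hxinv, ?_⟩
  intro c hcE
  by_contra hcon
  push Not at hcon
  obtain ⟨hc, hac⟩ := hcon
  have hcc : c * c = 1 := hE2 c hcE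
  have hcxN : c * x * c⁻¹ ∈ N := hEN c hcE x hxN
  have hcomm : (c * x * c⁻¹) * x = x * (c * x * c⁻¹) := hNab _ hcxN _ hxN
  have hacomm : a * c * a⁻¹ = c := by rw [hEab a haE c hcE]; group
  -- step 1: `c` inverts `x`
  have hcx : c * x * c⁻¹ = x⁻¹ := by
    have hyN : c * x * c⁻¹ * x ∈ N := N.mul_mem hcxN hxN
    have hyc : c * (c * x * c⁻¹ * x) * c⁻¹ = c * x * c⁻¹ * x := by
      calc c * (c * x * c⁻¹ * x) * c⁻¹ = (c * c) * x * (c * c)⁻¹ * (c * x * c⁻¹) := by group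
        _ = x * (c * x * c⁻¹) := by rw [hcc]; group
        _ = c * x * c⁻¹ * x := hcomm.symm
    have hyE₀ : ∀ b ∈ E₀, b * (c * x * c⁻¹ * x) * b⁻¹ = c * x * c⁻¹ * x := by
      intro b hb
      have h1 := hxfix b hb
      have h2 : b * c * b⁻¹ = c := by rw [hEab b (hE₀le hb) c hcE]; group
      calc b * (c * x * c⁻¹ * x) * b⁻¹
          = (b * c * b⁻¹) * (b * x * b⁻¹) * (b * c * b⁻¹)⁻¹ * (b * x * b⁻¹) := by group
        _ = c * x * c⁻¹ * x := by rw [h2, h1]
    have hya : a * (c * x * c⁻¹ * x) * a⁻¹ = (c * x * c⁻¹ * x)⁻¹ := by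
      calc a * (c * x * c⁻¹ * x) * a⁻¹
          = (a * c * a⁻¹) * (a * x * a⁻¹) * (a * c * a⁻¹)⁻¹ * (a * x * a⁻¹) := by group
        _ = c * x⁻¹ * c⁻¹ * x⁻¹ := by rw [hacomm, hxinv]
        _ = (x * (c * x * c⁻¹))⁻¹ := by group
        _ = (c * x * c⁻¹ * x)⁻¹ := by rw [← hcomm]
    have hfix_all : a * (c * x * c⁻¹ * x) * a⁻¹ = c * x * c⁻¹ * x := by
      by_contra hne'
      have hΦ : Φ (E₀ ⊔ Subgroup.zpowers c) :=
        ⟨sup_le hE₀le (Subgroup.zpowers_le.mpr hcE), _, hyN,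
          conj_fix_sup E₀ c _ hyE₀ hyc, a, haE, hne'⟩
      have h1 := hmax' _ hΦ le_sup_left
      apply hc
      rw [← h1]
      exact (le_sup_right : Subgroup.zpowers c ≤ _) (Subgroup.mem_zpowers c)
    have hy1 : c * x * c⁻¹ * x = 1 := by
      rw [hya] at hfix_all
      have h1 : (c * x * c⁻¹ * x) * (c * x * c⁻¹ * x) = 1 := by
        nth_rewrite 1 [← hfix_all]
        exact inv_mul_cancel _
      exact eq_one_of_sq_of_odd N hodd hyN h1
    exact eq_inv_of_mul_eq_one_left hy1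
  -- step 2: `a * c` centralises `x`
  have hacx : (a * c) * x * (a * c)⁻¹ = x := by
    calc (a * c) * x * (a * c)⁻¹ = a * (c * x * c⁻¹) * a⁻¹ := by group
      _ = a * x⁻¹ * a⁻¹ := by rw [hcx]
      _ = (a * x * a⁻¹)⁻¹ := by group
      _ = x := by rw [hxinv, inv_inv]
  have hΦ : Φ (E₀ ⊔ Subgroup.zpowers (a * c)) :=
    ⟨sup_le hE₀le (Subgroup.zpowers_le.mpr (E.mul_mem haE hcE)), x, hxN,
      conj_fix_sup E₀ (a * c) x hxfix hacx, a, haE, hxx⟩
  have h1 := hmax' _ hΦ le_sup_left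
  apply hac
  rw [← h1]
  exact (le_sup_right : Subgroup.zpowers (a * c) ≤ _) (Subgroup.mem_zpowers (a * c))

section Lin

variable {V : Type*} [CommGroup V]

/-- the map `v ↦ ξ v * v⁻¹` as a homomorphism of the abelian group `V` -/
def deltaHom (ξ : MulAut V) : V →* V where
  toFun v := ξ v * v⁻¹
  map_one' := by simp
  map_mul' a b := by
    rw [map_mul, mul_inv]
    exact mul_mul_mul_comm _ _ _ _

theorem deltaHom_apply (ξ : MulAut V) (v : V) : deltaHom ξ v = ξ v * v⁻¹ := rfl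

/-- an automorphism of odd order fixing `v` under its square fixes `v` -/
theorem fix_of_sq_fix (ξ : MulAut V) (m : ℕ) (hm : Odd m) (hξm : ξ ^ m = 1) (v : V)
    (h : ξ (ξ v) = v) : ξ v = v := by
  obtain ⟨j, rfl⟩ := hm
  have h2 : ∀ i : ℕ, (ξ ^ (2 * i)) v = v := by
    intro i
    induction i with
    | zero => simp
    | succ i ih =>
      have : 2 * (i + 1) = 2 * i + 1 + 1 := by ring
      rw [this, pow_succ, pow_succ, MulAut.mul_apply, MulAut.mul_apply, h, ih]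
  have h3 : (ξ ^ (2 * j + 1)) v = ξ v := by
    rw [pow_succ', MulAut.mul_apply, h2 j]
  rw [← h3, hξm, MulAut.one_apply]

/-- `[V, ξ] ∩ C_V(ξ) = 1` for `ξ` of odd order on an elementary abelian `2`-group -/
theorem delta_fix_eq_one (hexp : ∀ v : V, v * v = 1) (ξ : MulAut V) (m : ℕ) (hm : Odd m)
    (hξm : ξ ^ m = 1) (w : V) (h : ξ (ξ w * w⁻¹) = ξ w * w⁻¹) : ξ w * w⁻¹ = 1 := by
  have h1 : ξ (ξ w) = w := by
    have h2 : ξ w = (ξ w * w⁻¹) * w := by group
    calc ξ (ξ w) = ξ ((ξ w * w⁻¹) * w) := by rw [← h2]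
      _ = (ξ w * w⁻¹) * ξ w := by rw [map_mul, h]
      _ = (ξ w * ξ w) * w⁻¹ := by rw [mul_comm (ξ w * w⁻¹), mul_assoc]
      _ = w⁻¹ := by rw [hexp, one_mul]
      _ = w := inv_eq_of_mul_eq_one_left (hexp w)
  rw [fix_of_sq_fix ξ m hm hξm w h1, mul_inv_cancel]

/-- A special case of Thompson's `A × B` lemma. -/
theorem axb_special [Finite V] (hexp : ∀ v : V, v * v = 1) (ξ : MulAut V) (m : ℕ) (hm : Odd m)
    (hξm : ξ ^ m = 1) (𝔅 : Subgroup (MulAut V)) (h𝔅 : IsPGroup 2 𝔅)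
    (hcomm : ∀ β ∈ 𝔅, ∀ v, β (ξ v) = ξ (β v))
    (hfix : ∀ v : V, (∀ β ∈ 𝔅, β v = v) → ξ v = v) : ∀ v : V, ξ v = v := by
  classical
  have : Fact (Nat.Prime 2) := ⟨Nat.prime_two⟩
  by_contra hcon
  push Not at hcon
  obtain ⟨v₀, hv₀⟩ := hcon
  let U : Subgroup V := (deltaHom ξ).range
  let act : MulAction 𝔅 U :=
    { smul := fun β u => ⟨(β : MulAut V) (u : V), by
        obtain ⟨w, hw⟩ := u.2
        refine ⟨(β : MulAut V) w, ?_⟩
        rw [← hw, deltaHom_apply, deltaHom_apply, map_mul, map_inv, hcomm β β.2 w]⟩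
      one_smul := fun u => Subtype.ext rfl
      mul_smul := fun β γ u => Subtype.ext rfl }
  have hsmul : ∀ (β : 𝔅) (u : U), ((β • u : U) : V) = (β : MulAut V) (u : V) := fun _ _ => rfl
  have hU2 : IsPGroup 2 U := by
    intro u
    refine ⟨1, Subtype.ext ?_⟩
    rw [pow_one, pow_two]
    exact hexp u
  have hUne : Nontrivial U := by
    refine ⟨⟨⟨deltaHom ξ v₀, v₀, rfl⟩, 1, ?_⟩⟩
    intro h
    have h1 : ξ v₀ * v₀⁻¹ = 1 := congrArg Subtype.val h
    exact hv₀ (mul_inv_eq_one.mp h1)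
  have hdvd : 2 ∣ Nat.card U := by
    obtain ⟨k, hk⟩ := IsPGroup.iff_card.mp hU2
    rw [hk]
    have hk0 : k ≠ 0 := by
      rintro rfl
      rw [pow_zero] at hk
      have := Finite.one_lt_card (α := U)
      omega
    exact dvd_pow_self 2 hk0
  have h1fix : (1 : U) ∈ MulAction.fixedPoints 𝔅 U := by
    intro β
    apply Subtype.ext
    rw [hsmul]
    simp
  obtain ⟨u, hu, hu1⟩ := h𝔅.exists_fixed_point_of_prime_dvd_card_of_fixed_point U hdvd h1fix
  have hu' : ∀ β ∈ 𝔅, β (u : V) = u := by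
    intro β hβ
    have := hu ⟨β, hβ⟩
    have h2 := congrArg Subtype.val this
    rw [hsmul] at h2
    exact h2
  have h3 := hfix u hu'
  obtain ⟨w, hw⟩ := u.2
  rw [← hw, deltaHom_apply] at h3
  have h4 := delta_fix_eq_one hexp ξ m hm hξm w h3
  apply hu1
  apply Subtype.ext
  rw [← hw, deltaHom_apply, h4]
  rfl

/-- powers of `ξ` preserve a `ξ`-invariant subgroup -/
theorem pow_mem_of_invariant (ξ : MulAut V) (W : Subgroup V) (hWξ : ∀ w ∈ W, ξ w ∈ W) (k : ℕ) :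
    ∀ w ∈ W, (ξ ^ k) w ∈ W := by
  induction k with
  | zero => intro w hw; simpa using hw
  | succ k ih =>
    intro w hw
    rw [pow_succ', MulAut.mul_apply]
    exact hWξ _ (ih w hw)

theorem inv_mem_of_invariant (ξ : MulAut V) (m : ℕ) (hm : Odd m) (hξm : ξ ^ m = 1)
    (W : Subgroup V) (hWξ : ∀ w ∈ W, ξ w ∈ W) : ∀ w ∈ W, ξ⁻¹ w ∈ W := by
  obtain ⟨j, rfl⟩ := hm
  have h1 : ξ ^ (2 * j) = ξ⁻¹ := by
    apply eq_inv_of_mul_eq_one_left
    rw [← pow_succ]; exact hξm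
  intro w hw
  rw [← h1]
  exact pow_mem_of_invariant ξ W hWξ _ w hw

/-- **Failure of factorisation, rank one.**  `ξ` of odd order and `α` with `α² = 1`,
`α ξ = ξ⁻¹ α` act on a subgroup `W` of an elementary abelian `2`-group; `α` centralises a
subgroup `C` of index at most `2` in `W` and `ξ` acts nontrivially on `W`.  Then `T = [W, ξ]`
is invariant, `ξ` acts on it nontrivially, and `ξ³` trivially. -/
theorem ff_core [Finite V] (hexp : ∀ v : V, v * v = 1) (ξ α : MulAut V) (m : ℕ) (hm : Odd m)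
    (hξm : ξ ^ m = 1) (hαξ : ∀ v, α (ξ v) = ξ⁻¹ (α v))
    (W C : Subgroup V) (hWξ : ∀ w ∈ W, ξ w ∈ W) (hWα : ∀ w ∈ W, α w ∈ W)
    (hCW : C ≤ W) (hCα : ∀ c ∈ C, α c = c) (hW2 : Nat.card W ≤ 2 * Nat.card C)
    (hne : ∃ w ∈ W, ξ w ≠ w) :
    ∃ T : Subgroup V, T ≤ W ∧ (∀ t ∈ T, ξ t ∈ T) ∧ (∀ t ∈ T, α t ∈ T) ∧ (∃ t ∈ T, ξ t ≠ t) ∧
      ∀ t ∈ T, ξ (ξ (ξ t)) = t := by
  classical
  have hinvs : ∀ v : V, v⁻¹ = v := fun v => inv_eq_of_mul_eq_one_left (hexp v)
  have hWinv := inv_mem_of_invariant ξ m hm hξm W hWξ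
  have hTW : W.map (deltaHom ξ) ≤ W := by
    rintro _ ⟨w, hw, rfl⟩
    exact W.mul_mem (hWξ w hw) (W.inv_mem hw)
  have hTξ : ∀ t ∈ W.map (deltaHom ξ), ξ t ∈ W.map (deltaHom ξ) := by
    rintro _ ⟨w, hw, rfl⟩
    refine ⟨ξ w, hWξ w hw, ?_⟩
    rw [deltaHom_apply, deltaHom_apply, map_mul, map_inv]
  have hTα : ∀ t ∈ W.map (deltaHom ξ), α t ∈ W.map (deltaHom ξ) := by
    rintro _ ⟨w, hw, rfl⟩
    have hu : ξ⁻¹ (α w) ∈ W := hWinv _ (hWα w hw)
    have h1 : deltaHom ξ (ξ⁻¹ (α w)) ∈ W.map (deltaHom ξ) := Subgroup.mem_map_of_mem _ hu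
    have h2 : α (deltaHom ξ w) = (deltaHom ξ (ξ⁻¹ (α w)))⁻¹ := by
      rw [deltaHom_apply, deltaHom_apply, map_mul, map_inv, hαξ, MulAut.apply_inv_self, mul_inv,
        inv_inv, mul_comm]
    rw [h2]
    exact Subgroup.inv_mem _ h1
  -- fixed points of `ξ` in `T` are trivial
  have hF1 : ∀ t ∈ W.map (deltaHom ξ), ξ t = t → t = 1 := by
    rintro _ ⟨w, hw, rfl⟩ h
    rw [deltaHom_apply] at h ⊢
    exact delta_fix_eq_one hexp ξ m hm hξm w h
  have hP : ∀ v : V, ξ (ξ v) = v → ξ v = v := fun v h => fix_of_sq_fix ξ m hm hξm v h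
  have hex : ∃ t ∈ W.map (deltaHom ξ), ξ t ≠ t := by
    obtain ⟨w, hw, hne⟩ := hne
    refine ⟨deltaHom ξ w, Subgroup.mem_map_of_mem _ hw, ?_⟩
    intro h
    have h1 := hF1 _ (Subgroup.mem_map_of_mem _ hw) h
    rw [deltaHom_apply] at h1
    exact hne (mul_inv_eq_one.mp h1)
  generalize W.map (deltaHom ξ) = T at hTW hTξ hTα hF1 hex
  -- `|T| ≤ 4`
  have hcard4 : Nat.card T ≤ 4 := by
    have hUU : (T ⊓ C) ⊓ (T ⊓ C).map ξ.toMonoidHom = ⊥ := by
      rw [eq_bot_iff]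
      rintro t ⟨⟨htT, htC⟩, u, ⟨huT, huC⟩, hut⟩
      rw [Subgroup.mem_bot]
      have hut' : ξ u = t := hut
      have h1 : α t = t := hCα t htC
      have h2 : α u = u := hCα u huC
      have h3 : ξ⁻¹ u = ξ u := by
        have := hαξ u
        rw [h2, hut', h1] at this
        rw [hut']; exact this.symm
      have h4 : ξ (ξ u) = u := by
        rw [← h3, MulAut.apply_inv_self]
      have h5 : ξ u = u := hP u h4
      have h6 : u = 1 := hF1 u huT h5
      rw [← hut', h6, map_one]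
    have hcU : Nat.card ((T ⊓ C).map ξ.toMonoidHom) = Nat.card (T ⊓ C : Subgroup V) :=
      Subgroup.card_map_of_injective ξ.injective
    have hUT : (T ⊓ C) ⊔ (T ⊓ C).map ξ.toMonoidHom ≤ T := by
      apply sup_le inf_le_left
      rintro _ ⟨u, hu, rfl⟩
      exact hTξ u hu.1
    have h1 := card_sup_mul_card_inf' (T ⊓ C) ((T ⊓ C).map ξ.toMonoidHom)
      (by rw [Subgroup.normalizer_eq_top_iff.mpr inferInstance]; exact le_top)
    rw [hUU, Subgroup.card_bot, mul_one, hcU] at h1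
    have h2 : Nat.card (T ⊓ C : Subgroup V) * Nat.card (T ⊓ C : Subgroup V) ≤ Nat.card T := by
      rw [← h1]; exact Subgroup.card_le_of_le hUT
    -- index
    have h3 : Nat.card W = Nat.card C * C.relIndex W := Helper10.card_eq_card_mul_relIndex hCW
    have hCpos : 0 < Nat.card C := Nat.card_pos
    have hWpos : 0 < Nat.card W := Nat.card_pos
    have h4 : C.relIndex W ≤ 2 := by
      by_contra hlt
      rw [not_le] at hlt
      have : 2 * Nat.card C < Nat.card C * C.relIndex W := by nlinarith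
      omega
    have h40 : C.relIndex W ≠ 0 := by
      intro h0
      rw [h0, mul_zero] at h3
      omega
    have h5 : C.relIndex T ≤ C.relIndex W := Subgroup.relIndex_le_of_le_right hTW h40
    have h6 : Nat.card T = Nat.card (T ⊓ C : Subgroup V) * (T ⊓ C).relIndex T :=
      Helper10.card_eq_card_mul_relIndex inf_le_left
    rw [Subgroup.inf_relIndex_left] at h6
    have hUpos : 0 < Nat.card (T ⊓ C : Subgroup V) := Nat.card_pos
    have h7 : Nat.card T ≤ 2 * Nat.card (T ⊓ C : Subgroup V) := by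
      rw [h6]
      have : C.relIndex T ≤ 2 := h5.trans h4
      nlinarith
    have h8 : Nat.card (T ⊓ C : Subgroup V) ≤ 2 := by
      by_contra hlt
      rw [not_le] at hlt
      nlinarith
    omega
  refine ⟨T, hTW, hTξ, hTα, hex, ?_⟩
  intro t ht
  by_cases ht1 : t = 1
  · rw [ht1]; simp
  have hs : ξ t ∈ T := hTξ t ht
  have hr : ξ (ξ t) ∈ T := hTξ _ hs
  have hs1 : ξ t ≠ 1 := by
    intro h
    apply ht1
    have : ξ t = ξ 1 := by rw [h, map_one]
    exact ξ.injective this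
  have hst : ξ t ≠ t := fun h => ht1 (hF1 t ht h)
  have hr1 : ξ (ξ t) ≠ 1 := by
    intro h
    apply hs1
    have : ξ (ξ t) = ξ 1 := by rw [h, map_one]
    exact ξ.injective this
  have hrs : ξ (ξ t) ≠ ξ t := fun h => hs1 (hF1 _ hs h)
  have hrt : ξ (ξ t) ≠ t := fun h => hst (hP t h)
  have hts1 : t * ξ t ≠ 1 := by
    intro h
    apply hst
    have h1 : ξ t = t⁻¹ := eq_inv_of_mul_eq_one_right h
    rw [h1, hinvs]
  have htst : t * ξ t ≠ t := fun h => hs1 (mul_eq_left.mp h)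
  have htss : t * ξ t ≠ ξ t := fun h => ht1 (mul_eq_right.mp h)
  have hkey : ξ (ξ t) = t * ξ t := by
    by_contra hne5
    have hS : ({1, t, ξ t, t * ξ t, ξ (ξ t)} : Finset V).card = 5 := by
      rw [Finset.card_insert_of_notMem, Finset.card_insert_of_notMem,
        Finset.card_insert_of_notMem, Finset.card_insert_of_notMem, Finset.card_singleton]
      · simp only [Finset.mem_singleton]; exact fun h => hne5 h.symm
      · simp only [Finset.mem_insert, Finset.mem_singleton, not_or]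
        exact ⟨fun h => htss h.symm, fun h => hrs h.symm⟩
      · simp only [Finset.mem_insert, Finset.mem_singleton, not_or]
        exact ⟨fun h => hst h.symm, fun h => htst h.symm, fun h => hrt h.symm⟩
      · simp only [Finset.mem_insert, Finset.mem_singleton, not_or]
        exact ⟨fun h => ht1 h.symm, fun h => hs1 h.symm, fun h => hts1 h.symm,
          fun h => hr1 h.symm⟩
    have hST : (({1, t, ξ t, t * ξ t, ξ (ξ t)} : Finset V) : Set V) ⊆ (T : Set V) := by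
      intro z hz
      simp only [Finset.coe_insert, Finset.coe_singleton, Set.mem_insert_iff,
        Set.mem_singleton_iff] at hz
      rcases hz with rfl | rfl | rfl | rfl | rfl
      · exact T.one_mem
      · exact ht
      · exact hs
      · exact T.mul_mem ht hs
      · exact hr
    have h1 := Set.ncard_le_ncard hST (Set.toFinite _)
    rw [Set.ncard_coe_finset, hS] at h1
    have h2 : (T : Set V).ncard = Nat.card T := (Nat.card_coe_set_eq (T : Set V)).symm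
    rw [h2] at h1
    omega
  rw [hkey, map_mul, hkey]
  calc ξ t * (t * ξ t) = t * (ξ t * ξ t) := by rw [mul_left_comm]
    _ = t := by rw [hexp, mul_one]

end Lin

end Cfsg.Agent.Helper19
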