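import Cfsg.Agent.Helper19.ThompsonThesis

/-!
Helper19: Thompson's theorem for an inner fixed-point-free action: a subgroup `Q` normalised by an
element `h` with `h ^ p = 1` (`p` prime) and `C_Q(h) = 1` is nilpotent.
-/

set_option autoImplicit false

namespace Cfsg.Agent.Helper19

universe u

theorem isNilpotent_of_fpf_conj {G : Type u} [Group G] [Finite G] (Q : Subgroup G) (h : G) {p : ℕ}
    (hp : p.Prime) (hnorm : ∀ x ∈ Q, h * x * h⁻¹ ∈ Q) (hhp : h ^ p = 1)
    (hfpf : Q ⊓ Subgroup.centralizer {h} = ⊥) : Group.IsNilpotent Q := by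
  let φ : Q →* Q :=
    ((MulAut.conj h).toMonoidHom.comp Q.subtype).codRestrict Q (fun x => hnorm x x.2)
  have hφ : ∀ n : Q, ((φ n : Q) : G) = h * n * h⁻¹ := fun n => rfl
  have hiter : ∀ (k : ℕ) (n : Q), (((⇑φ)^[k] n : Q) : G) = h ^ k * n * (h ^ k)⁻¹ := by
    intro k
    induction k with
    | zero => intro n; simp
    | succ k ih =>
      intro n
      rw [Function.iterate_succ_apply', hφ, ih, pow_succ']
      group
  apply thompson_thesis hp φ
  constructor
  · intro n hn
    have hcomm : h * (n : G) * h⁻¹ = n := by rw [← hφ, hn]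
    have hmem : (n : G) ∈ Q ⊓ Subgroup.centralizer {h} := by
      refine ⟨n.2, ?_⟩
      show (n : G) ∈ Subgroup.centralizer {h}
      rw [Subgroup.mem_centralizer_iff]
      intro g hg
      rw [Set.mem_singleton_iff] at hg
      rw [hg]
      calc h * (n : G) = (h * n * h⁻¹) * h := by group
        _ = n * h := by rw [hcomm]
    rw [hfpf, Subgroup.mem_bot] at hmem
    exact Subtype.ext hmem
  · intro n
    apply Subtype.ext
    rw [hiter, hhp]
    simp

/-- a non-identity element of a finite group has a power of prime order -/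
theorem exists_pow_prime_order {M : Type*} [Group M] [Finite M] {k : M} (hk : k ≠ 1) :
    ∃ (p j : ℕ), p.Prime ∧ (k ^ j) ^ p = 1 ∧ k ^ j ≠ 1 := by
  have hn1 : orderOf k ≠ 1 := fun h => hk (orderOf_eq_one_iff.mp h)
  have hn0 : 0 < orderOf k := orderOf_pos k
  have hp : (orderOf k).minFac.Prime := Nat.minFac_prime hn1
  obtain ⟨j, hj⟩ := Nat.minFac_dvd (orderOf k)
  refine ⟨(orderOf k).minFac, j, hp, ?_, ?_⟩
  · rw [← pow_mul, mul_comm, ← hj, pow_orderOf_eq_one]
  · have hj0 : j ≠ 0 := by
      rintro rfl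
      rw [mul_zero] at hj
      omega
    apply pow_ne_one_of_lt_orderOf hj0
    have h2 := hp.two_le
    nlinarith [Nat.pos_of_ne_zero hj0]

end Cfsg.Agent.Helper19
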