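import Mathlib

set_option autoImplicit false

/-!
# CALL LM (helper21, row S4067), piece X2 (double by helper19)

`|G'| = 2`, `G' ≤ Z(G)`: a central involution outside `G'`, or a non-central `x` with
`x² ∈ G'`, `x² ≠ 1`.
-/

namespace Cfsg.Agent.Helper19.LM

open scoped commutatorElement

theorem lm_x2_taut19 (p q r : Prop) (h1 : ¬ (p ↔ r)) (h2 : ¬ (q ↔ r)) : (p ↔ q) := by
  tauto

/-- X2: `p = 2`: a central involution outside `G'`, or a non-central `x` with `x² ≠ 1`, `x² ∈ G'`. -/
theorem lm_x2 {G : Type*} [Group G] [Finite G] (hZ : commutator G ≤ Subgroup.center G)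
    (hc : Nat.card (commutator G) = 2) :
    (∃ c : G, c ∈ Subgroup.center G ∧ orderOf c = 2 ∧ c ∉ commutator G) ∨
      (∃ x : G, x ∉ Subgroup.center G ∧ x ^ 2 ∈ commutator G ∧ x ^ 2 ≠ 1) := by
  classical
  by_cases h1 : ∃ c : G, c ∈ Subgroup.center G ∧ orderOf c = 2 ∧ c ∉ commutator G
  · exact Or.inl h1
  right
  push Not at h1
  -- the non-identity element `z` of `G'`
  obtain ⟨z', hz'ne, hz'u⟩ := (Nat.card_eq_two_iff' (1 : ↥(commutator G))).mp hc
  have hz1 : (z' : G) ≠ 1 := fun h => hz'ne (Subtype.ext h)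
  have hzG : (z' : G) ∈ commutator G := z'.2
  have hzZ : (z' : G) ∈ Subgroup.center G := hZ hzG
  have hall : ∀ w ∈ commutator G, w = 1 ∨ w = (z' : G) := by
    intro w hw
    by_cases hw1 : w = 1
    · exact Or.inl hw1
    · right
      have h := hz'u ⟨w, hw⟩ (fun h => hw1 (congrArg Subtype.val h))
      exact congrArg Subtype.val h
  have hz2' : z' ^ 2 = 1 := by
    have h := pow_card_eq_one' (G := ↥(commutator G)) (x := z')
    rwa [hc] at h
  have hz2 : (z' : G) ^ 2 = 1 := by
    have h := congrArg Subtype.val hz2'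
    simpa using h
  obtain ⟨z, hzdef⟩ : ∃ z : G, z = (z' : G) := ⟨_, rfl⟩
  rw [← hzdef] at hz1 hzG hzZ hall hz2
  have hzz : z * z = 1 := by rw [← pow_two]; exact hz2
  have hzc : ∀ g : G, g * z = z * g := fun g => Subgroup.mem_center_iff.mp hzZ g
  -- commutators are `1` or `z`
  have hcomm : ∀ g h : G, h * g = g * h ∨ h * g = z * (g * h) := by
    intro g h
    have hm : ⁅h, g⁆ ∈ commutator G := by
      rw [commutator_def]
      exact Subgroup.commutator_mem_commutator (Subgroup.mem_top _) (Subgroup.mem_top _)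
    have hk : h * g = (h * g * h⁻¹ * g⁻¹) * (g * h) := by group
    rcases hall _ hm with h0 | h0
    · left
      rw [commutatorElement_def] at h0
      rw [hk, h0, one_mul]
    · right
      rw [commutatorElement_def] at h0
      rw [hk, h0]
  -- squares are central
  have hsq : ∀ g : G, g ^ 2 ∈ Subgroup.center G := by
    intro g
    rw [Subgroup.mem_center_iff]
    intro h
    rcases hcomm g h with h0 | h0
    · rw [pow_two, ← mul_assoc, h0, mul_assoc, h0, ← mul_assoc]
    · have e : z * (g * h) * g = z * (g * (h * g)) := by simp only [mul_assoc]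
      rw [pow_two, ← mul_assoc, h0, e, h0, ← mul_assoc g z, hzc g, mul_assoc z g,
        ← mul_assoc z z, hzz, one_mul, ← mul_assoc]
  -- a non-commuting pair
  have hex : ∃ a b : G, b * a ≠ a * b := by
    by_contra hcon
    push Not at hcon
    have hle : commutator G ≤ ⊥ := by
      rw [commutator_def, Subgroup.commutator_le]
      intro g₁ _ g₂ _
      rw [Subgroup.mem_bot, commutatorElement_eq_one_iff_mul_comm]
      exact hcon g₂ g₁
    exact hz1 (Subgroup.mem_bot.mp (hle hzG))
  obtain ⟨a, b, hab⟩ := hex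
  have hba : b * a = z * (a * b) := by
    rcases hcomm a b with h0 | h0
    · exact absurd h0 hab
    · exact h0
  have haZ : a ∉ Subgroup.center G := fun h => hab (Subgroup.mem_center_iff.mp h b)
  have hbZ : b ∉ Subgroup.center G := fun h => hab (Subgroup.mem_center_iff.mp h a).symm
  have habZ : a * b ∉ Subgroup.center G := by
    intro h
    have h2 := Subgroup.mem_center_iff.mp h a
    -- a * (a * b) = a * b * a
    rw [mul_assoc] at h2
    exact hab (mul_left_cancel h2).symm
  have habsq : (a * b) ^ 2 = z * (a ^ 2 * b ^ 2) := by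
    calc (a * b) ^ 2 = a * ((b * a) * b) := by rw [pow_two]; simp only [mul_assoc]
      _ = a * (z * (a * b) * b) := by rw [hba]
      _ = z * (a ^ 2 * b ^ 2) := by
        rw [pow_two, pow_two]
        simp only [mul_assoc]
        rw [← mul_assoc a z, hzc a, mul_assoc]
  -- the finishing step
  have fin : ∀ g : G, g ∉ Subgroup.center G →
      (∃ c : G, c ∈ Subgroup.center G ∧ c ^ 2 = g ^ 2 * z) →
      ∃ x : G, x ∉ Subgroup.center G ∧ x ^ 2 ∈ commutator G ∧ x ^ 2 ≠ 1 := by
    intro g hg ⟨c, hcZ, hc2⟩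
    have hcinv : c⁻¹ ∈ Subgroup.center G := inv_mem hcZ
    have hcm : Commute g c⁻¹ := Subgroup.mem_center_iff.mp hcinv g
    have hzi : z⁻¹ = z := inv_eq_of_mul_eq_one_right hzz
    have hx2 : (g * c⁻¹) ^ 2 = z := by
      rw [hcm.mul_pow, inv_pow, hc2, mul_inv_rev, hzi, ← mul_assoc, hzc, mul_assoc,
        mul_inv_cancel, mul_one]
    refine ⟨g * c⁻¹, ?_, ?_, ?_⟩
    · intro h
      apply hg
      have h3 := mul_mem h hcZ
      rwa [inv_mul_cancel_right] at h3
    · rw [hx2]; exact hzG
    · rw [hx2]; exact hz1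
  -- squaring on the centre
  let f : ↥(Subgroup.center G) →* ↥(Subgroup.center G) :=
    { toFun := fun c => c ^ 2
      map_one' := one_pow 2
      map_mul' := fun c d => by
        have hcd : Commute c d := Subtype.ext (Subgroup.mem_center_iff.mp d.2 (c : G))
        exact hcd.mul_pow 2 }
  let ζ : ↥(Subgroup.center G) := ⟨z, hzZ⟩
  have hker : ∀ c : ↥(Subgroup.center G), c ∈ f.ker → c = 1 ∨ c = ζ := by
    intro c hcker
    have hc2 : c ^ 2 = 1 := MonoidHom.mem_ker.mp hcker
    have hc2' : (c : G) ^ 2 = 1 := by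
      have h := congrArg Subtype.val hc2
      simpa using h
    by_cases hc1 : (c : G) = 1
    · left; exact Subtype.ext hc1
    · right
      have ho : orderOf (c : G) = 2 := orderOf_eq_prime hc2' hc1
      have hcG := h1 (c : G) c.2 ho
      rcases hall _ hcG with h0 | h0
      · exact absurd h0 hc1
      · exact Subtype.ext h0
  have hζker : ζ ∈ f.ker := by
    rw [MonoidHom.mem_ker]
    apply Subtype.ext
    show z ^ 2 = 1
    exact hz2
  have hkercard : Nat.card ↥f.ker = 2 := by
    rw [Nat.card_eq_two_iff' (1 : ↥f.ker)]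
    refine ⟨⟨ζ, hζker⟩, ?_, ?_⟩
    · intro h
      have h2 := congrArg (fun y : ↥f.ker => ((y : ↥(Subgroup.center G)) : G)) h
      exact hz1 h2
    · intro y hy
      rcases hker y.1 y.2 with h0 | h0
      · exact absurd (Subtype.ext h0) hy
      · exact Subtype.ext h0
  have hidx : f.range.index = 2 := by
    have e1 := Subgroup.card_mul_index f.ker
    have e2 := Subgroup.index_ker f
    have e3 := Subgroup.card_mul_index f.range
    rw [hkercard, e2] at e1
    have hpos : 0 < Nat.card ↥f.range := Nat.card_pos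
    have e4 : Nat.card ↥f.range * f.range.index = Nat.card ↥f.range * 2 := by
      rw [e3, ← e1, mul_comm]
    exact Nat.eq_of_mul_eq_mul_left hpos e4
  let A : ↥(Subgroup.center G) := ⟨a ^ 2, hsq a⟩
  let B : ↥(Subgroup.center G) := ⟨b ^ 2, hsq b⟩
  have hA := Subgroup.mul_mem_iff_of_index_two hidx (a := A) (b := ζ)
  have hB := Subgroup.mul_mem_iff_of_index_two hidx (a := B) (b := ζ)
  have hAB := Subgroup.mul_mem_iff_of_index_two hidx (a := A) (b := B)
  have hrange : ∀ u : ↥(Subgroup.center G), u ∈ f.range →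
      ∃ c : G, c ∈ Subgroup.center G ∧ c ^ 2 = (u : G) := by
    rintro u ⟨c, rfl⟩
    exact ⟨(c : G), c.2, rfl⟩
  by_cases hAζ : A * ζ ∈ f.range
  · obtain ⟨c, hcZ, hc2⟩ := hrange _ hAζ
    exact fin a haZ ⟨c, hcZ, hc2⟩
  by_cases hBζ : B * ζ ∈ f.range
  · obtain ⟨c, hcZ, hc2⟩ := hrange _ hBζ
    exact fin b hbZ ⟨c, hcZ, hc2⟩
  have hABm : A * B ∈ f.range := by
    rw [hAB]
    rw [hA] at hAζ
    rw [hB] at hBζ
    exact lm_x2_taut19 _ _ _ hAζ hBζ
  obtain ⟨c, hcZ, hc2⟩ := hrange _ hABm
  refine fin (a * b) habZ ⟨c, hcZ, ?_⟩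
  rw [hc2, habsq]
  show a ^ 2 * b ^ 2 = z * (a ^ 2 * b ^ 2) * z
  rw [← hzc, mul_assoc, hzz, mul_one]

end Cfsg.Agent.Helper19.LM
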