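import Cfsg.Agent.Helper19.McLI2aux
import Cfsg.Agent.Helper98.McLB
import Cfsg.Agent.Helper80.McLH
import Cfsg.Agent.Helper39.McLI

/-!
# Piece I2 of S5075 (McLaughlin): in the thin case every nonzero vector of `W` is a centre
-/

set_option autoImplicit false

namespace Cfsg.Agent.Helper19.McL

open Module Cfsg.Agent.Helper71.McL

variable {F V : Type*} [Field F] [AddCommGroup V] [Module F V]

/-- Piece I2 of CALL S5075: in the thin case (characteristic not 2) every nonzero vector of `W`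
is a centre. -/
theorem all_centers [Module.Finite F V] (S : TSys F V) (h2 : (2 : F) ≠ 0) (W : Submodule F V) (hG : S.Good W) (hT : S.Thin) (hsym : S.Sym) : ∀ x ∈ W, x ≠ 0 → S.IsCenter x := by
  refine all_centers_aux S W hG hsym (fun hv => Cfsg.Agent.Helper98.McL.exists_opp S W hG hv) ?_ ?_
  · intro φ ψ v w h1 hw hφw hψv x y hx hx0 hy hy0 χ hχ
    obtain ⟨χP, χK, e, hP, hK, -, -⟩ :=
      Cfsg.Agent.Helper80.McL.spade S h2 hT hsym h1 hw hφw hψv hx hx0 hy hy0 χ hχ
    exact ⟨χP, χK, e, hP, hK⟩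
  · intro φ ψ v w h1 hw hφw hψv
    exact Cfsg.Agent.Helper39.McL.club S h2 W hG hT hsym h1 hw hφw hψv

end Cfsg.Agent.Helper19.McL
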