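import Mathlib
import Cfsg.Prelude.Def_Transfer
import Cfsg.Prelude.Def_PLocal
import Cfsg.Agent.Helper33.SylowRel
import Cfsg.Agent.Helper33.PComplement
import Cfsg.Agent.Helper10.Thompson
import Cfsg.Agent.Helper19.PNil
import Cfsg.Agent.Helper19.ThompsonJ
import Cfsg.Agent.Helper19.ThompsonJA
import Cfsg.Agent.Helper19.QuadAction
import Cfsg.Agent.Helper19.ThompsonNPC

/-!
Helper19: Thompson's normal `p`-complement theorem for the ABELIAN version of `J`
(`Cfsg.thompsonSubgroupAOf`, generated by the abelian subgroups of largest order), relative to a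
class `Q` of groups closed under subgroups and quotients and to a *final step* which disposes of
the minimal configuration `MinCfg`.  For odd `p` the final step is the quadratic action lemma
(`minCfg_false_of_odd`), which gives `thompson_npcA_odd`.

This is a port of `Helper19/ThompsonNPC.lean` (elementary abelian `J`).
-/

set_option autoImplicit false

namespace Cfsg.Agent.Helper19

universe u

open Helper33

/-- a class of groups closed under subgroups and quotients -/
structure QClosed (Q : ∀ (Γ : Type u) [Group Γ], Prop) : Prop where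
  sub : ∀ (Γ : Type u) [Group Γ] (M : Subgroup Γ), Q Γ → Q M
  quot : ∀ (Γ : Type u) [Group Γ] (N : Subgroup Γ) [N.Normal], Q Γ → Q (Γ ⧸ N)

/-- Thompson's criterion (abelian `J`) for one group of the class `Q`. -/
def ThompsonStmtA (p : ℕ) (Q : ∀ (Γ : Type u) [Group Γ], Prop) (Γ : Type u) [Group Γ] : Prop :=
  Q Γ → ∀ P : Sylow p Γ,
    PNil p (Subgroup.centralizer ((ZZ (P : Subgroup Γ) : Subgroup Γ) : Set Γ)) →
    PNil p (Subgroup.normalizer ((JA (P : Subgroup Γ) : Subgroup Γ) : Set Γ)) →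
    PNil p (⊤ : Subgroup Γ)

/-- The minimal configuration reached in the proof of Thompson's normal `p`-complement theorem:
`P` a (Sylow, maximal) `p`-subgroup, `H = O_p(G)` self-centralising, `K/H` the abelian normal
`p`-complement of `G/H`, `V = Ω₁(Z(H))` with `C_G(V) = H`, and `A` an abelian subgroup of `P` of
largest order, not inside `H`, normalised by `V`. -/
structure MinCfg (p : ℕ) {G : Type*} [Group G] (P H K V A : Subgroup G) : Prop where
  hP : IsPGroup p P
  hHn : H.Normal
  hKn : K.Normal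
  hVn : V.Normal
  hHP : H ≤ P
  hKP : K ⊓ P = H
  hKPtop : K ⊔ P = ⊤
  hKp' : ∀ k ∈ K, ∃ m : ℕ, m.Coprime p ∧ k ^ m ∈ H
  hKab : ∀ x ∈ K, ∀ y ∈ K, x * y * (y * x)⁻¹ ∈ H
  hCH : Subgroup.centralizer (H : Set G) ≤ H
  hOp : ∀ X : Subgroup G, X.Normal → IsPGroup p X → X ≤ H
  hVab : ∀ a ∈ V, ∀ b ∈ V, a * b = b * a
  hVexp : ∀ a ∈ V, a ^ p = 1
  hVH : V ≤ H
  hHV : H ≤ Subgroup.centralizer (V : Set G)
  hCV : Subgroup.centralizer (V : Set G) ≤ H
  hA : MaxAb P A
  hAH : ¬ A ≤ H
  hVA : V ≤ Subgroup.normalizer (A : Set G)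
  hfaith : ∀ a ∈ P, (∀ k ∈ K, a * k * a⁻¹ * k⁻¹ ∈ H) → a ∈ H
  hpmax : ∀ M : Subgroup G, P ≤ M → M ≠ ⊤ → M = P

theorem ih_subA {p : ℕ} [Fact p.Prime] {Q : ∀ (Γ : Type u) [Group Γ], Prop} (hQc : QClosed Q)
    {G : Type u} [Group G] [Finite G] (hQ : Q G)
    (IH : ∀ (G' : Type u) [Group G'] [Finite G'], Nat.card G' < Nat.card G → ThompsonStmtA p Q G')
    (M R : Subgroup G) (hM : M ≠ ⊤) (hRM : R ≤ M) (hR : IsPGroup p R)
    (hidx : ¬ p ∣ R.relIndex M)
    (hC : PNil p (M ⊓ Subgroup.centralizer ((ZZ R : Subgroup G) : Set G)))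
    (hN : PNil p (M ⊓ Subgroup.normalizer ((JA R : Subgroup G) : Set G))) : PNil p M := by
  have hlt : Nat.card M < Nat.card G := card_lt_of_ne_top hM
  let P' : Sylow p M := (hR.comap_subtype (K := M)).toSylow hidx
  have hP' : (P' : Subgroup M) = R.subgroupOf M := rfl
  have hmap : (R.subgroupOf M).map M.subtype = R := Subgroup.map_subgroupOf_eq_of_le hRM
  rw [← pNil_top_subtype_iff]
  apply IH M hlt (hQc.sub G M hQ) P'
  · rw [← pNil_map_iff M.subtype M.subtype_injective]
    apply hC.mono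
    rintro _ ⟨g, hg, rfl⟩
    refine ⟨g.2, ?_⟩
    show (g : G) ∈ Subgroup.centralizer ((ZZ R : Subgroup G) : Set G)
    rw [Subgroup.mem_centralizer_iff]
    intro z hz
    have hzM : z ∈ M := hRM hz.1
    have h1 : (⟨z, hzM⟩ : M) ∈ ZZ (P' : Subgroup M) := by
      rw [hP']
      refine ⟨Subgroup.mem_subgroupOf.mpr hz.1, ?_⟩
      show (⟨z, hzM⟩ : M) ∈ Subgroup.centralizer ((R.subgroupOf M : Subgroup M) : Set M)
      rw [Subgroup.mem_centralizer_iff]
      intro x hx
      exact Subtype.ext (Subgroup.mem_centralizer_iff.mp hz.2 x (Subgroup.mem_subgroupOf.mp hx))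
    exact congrArg Subtype.val (Subgroup.mem_centralizer_iff.mp hg _ h1)
  · rw [← pNil_map_iff M.subtype M.subtype_injective]
    apply hN.mono
    refine le_inf (Subgroup.map_subtype_le _) ?_
    have h1 := Subgroup.le_normalizer_map (H := JA (P' : Subgroup M)) M.subtype
    have h2 : (JA (P' : Subgroup M)).map M.subtype = JA R := by
      rw [← JA_map M.subtype M.subtype_injective.injOn, hP', hmap]
    rw [h2] at h1
    exact h1


theorem ih_quotA {p : ℕ} [Fact p.Prime] {Q : ∀ (Γ : Type u) [Group Γ], Prop} (hQc : QClosed Q)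
    {G : Type u} [Group G] [Finite G] (hQ : Q G)
    (IH : ∀ (G' : Type u) [Group G'] [Finite G'], Nat.card G' < Nat.card G → ThompsonStmtA p Q G')
    (P : Sylow p G) (H : Subgroup G) [H.Normal] (hH : H ≠ ⊥) (hHP : H ≤ (P : Subgroup G))
    (hbig : ∀ H' : Subgroup G, H < H' → H' ≤ (P : Subgroup G) →
      (P : Subgroup G) ≤ Subgroup.normalizer (H' : Set G) →
      PNil p (Subgroup.normalizer (H' : Set G))) :
    PNil p (⊤ : Subgroup (G ⧸ H)) := by
  have hp : p.Prime := Fact.out
  have hsurj : Function.Surjective (QuotientGroup.mk' H) := QuotientGroup.mk'_surjective H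
  have hker : (QuotientGroup.mk' H).ker = H := QuotientGroup.ker_mk' H
  have hPbar : IsPGroup p ((P : Subgroup G).map (QuotientGroup.mk' H)) := P.2.map _
  have hidx : ((P : Subgroup G).map (QuotientGroup.mk' H)).index = (P : Subgroup G).index :=
    Subgroup.index_map_eq _ hsurj (hker.le.trans hHP)
  have hidx' : ¬ p ∣ ((P : Subgroup G).map (QuotientGroup.mk' H)).index := by
    rw [hidx]; exact P.not_dvd_index
  by_cases hbot : (P : Subgroup G).map (QuotientGroup.mk' H) = ⊥
  · -- the quotient has order prime to p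
    apply pNil_of_coprime_card
    rw [Subgroup.card_top]
    have h1 : Nat.card (G ⧸ H) = ((P : Subgroup G).map (QuotientGroup.mk' H)).index := by
      rw [hbot, Subgroup.index_bot]
    rw [h1, Nat.coprime_comm, Nat.Prime.coprime_iff_not_dvd hp]
    exact hidx'
  · have hlt : Nat.card (G ⧸ H) < Nat.card G := by
      rw [← Subgroup.index_eq_card, ← Subgroup.card_mul_index H]
      have h1 : 1 < Nat.card H := by
        rcases Nat.lt_or_ge 1 (Nat.card H) with h | h
        · exact h
        · exact absurd (Subgroup.eq_bot_of_card_le H h) hH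
      have h2 : 0 < H.index := Nat.pos_of_ne_zero Subgroup.index_ne_zero_of_finite
      nlinarith
    let Pb : Sylow p (G ⧸ H) := hPbar.toSylow hidx'
    have hPb : (Pb : Subgroup (G ⧸ H)) = (P : Subgroup G).map (QuotientGroup.mk' H) := rfl
    apply IH (G ⧸ H) hlt (hQc.quot G H hQ) Pb
    · apply (quot_normalizer_pNil P H hHP hbig (ZZ (Pb : Subgroup (G ⧸ H))) ?_ ?_ ?_).mono
        (Subgroup.centralizer_le_normalizer _)
      · rw [hPb]; exact inf_le_left
      · exact center_ne_bot Pb.2 (by rw [hPb]; exact hbot)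
      · rw [← hPb]
        exact Subgroup.le_normalizer.trans (normalizer_le_normalizer_center _)
    · apply quot_normalizer_pNil P H hHP hbig (JA (Pb : Subgroup (G ⧸ H))) ?_ ?_ ?_
      · rw [← hPb]; exact JA_le _
      · exact JA_ne_bot (by rw [hPb]; exact hbot)
      · rw [← hPb]
        exact Subgroup.le_normalizer.trans (normalizer_le_normalizer_JA _)


theorem ih_pquotA {p : ℕ} [Fact p.Prime] {Q : ∀ (Γ : Type u) [Group Γ], Prop} (hQc : QClosed Q)
    {G : Type u} [Group G] [Finite G] (hQ : Q G)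
    (IH : ∀ (G' : Type u) [Group G'] [Finite G'], Nat.card G' < Nat.card G → ThompsonStmtA p Q G')
    (P : Sylow p G)
    (hC : PNil p (Subgroup.centralizer ((ZZ (P : Subgroup G) : Subgroup G) : Set G)))
    (hN : PNil p (Subgroup.normalizer ((JA (P : Subgroup G) : Subgroup G) : Set G)))
    (M : Subgroup G) [M.Normal] (hM : M ≠ ⊥) (hcop : (Nat.card M).Coprime p) :
    PNil p (⊤ : Subgroup G) := by
  have hp : p.Prime := Fact.out
  have hsurj : Function.Surjective (QuotientGroup.mk' M) := QuotientGroup.mk'_surjective M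
  have hker : (QuotientGroup.mk' M).ker = M := QuotientGroup.ker_mk' M
  have hinj : Set.InjOn (QuotientGroup.mk' M) ((P : Subgroup G) : Set G) :=
    injOn_mk_of_coprime _ M P.2 hcop
  have hPbar : IsPGroup p ((P : Subgroup G).map (QuotientGroup.mk' M)) := P.2.map _
  have hidx' : ¬ p ∣ ((P : Subgroup G).map (QuotientGroup.mk' M)).index :=
    fun h => P.not_dvd_index (h.trans (Subgroup.index_map_dvd _ hsurj))
  have hlt : Nat.card (G ⧸ M) < Nat.card G := by
    rw [← Subgroup.index_eq_card, ← Subgroup.card_mul_index M]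
    have h1 : 1 < Nat.card M := by
      rcases Nat.lt_or_ge 1 (Nat.card M) with h | h
      · exact h
      · exact absurd (Subgroup.eq_bot_of_card_le M h) hM
    have h2 : 0 < M.index := Nat.pos_of_ne_zero Subgroup.index_ne_zero_of_finite
    nlinarith
  let Pb : Sylow p (G ⧸ M) := hPbar.toSylow hidx'
  have hPb : (Pb : Subgroup (G ⧸ M)) = (P : Subgroup G).map (QuotientGroup.mk' M) := rfl
  have hZ : ZZ (Pb : Subgroup (G ⧸ M)) = (ZZ (P : Subgroup G)).map (QuotientGroup.mk' M) := by
    rw [hPb]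
    apply le_antisymm
    · rintro _ ⟨⟨y, hy, rfl⟩, hyc⟩
      refine ⟨y, ⟨hy, ?_⟩, rfl⟩
      show y ∈ Subgroup.centralizer ((P : Subgroup G) : Set G)
      rw [Subgroup.mem_centralizer_iff]
      intro x hx
      have h1 := Subgroup.mem_centralizer_iff.mp hyc (QuotientGroup.mk' M x)
        (Subgroup.mem_map_of_mem _ hx)
      rw [← map_mul, ← map_mul] at h1
      exact hinj (mul_mem hx hy) (mul_mem hy hx) h1
    · rintro _ ⟨z, hz, rfl⟩
      refine ⟨Subgroup.mem_map_of_mem _ hz.1, ?_⟩
      show QuotientGroup.mk' M z ∈ Subgroup.centralizer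
        (((P : Subgroup G).map (QuotientGroup.mk' M) : Subgroup (G ⧸ M)) : Set (G ⧸ M))
      rw [Subgroup.mem_centralizer_iff]
      rintro _ ⟨x, hx, rfl⟩
      rw [← map_mul, ← map_mul, Subgroup.mem_centralizer_iff.mp hz.2 x hx]
  have hJ : JA (Pb : Subgroup (G ⧸ M)) = (JA (P : Subgroup G)).map (QuotientGroup.mk' M) := by
    rw [hPb]; exact JA_map _ hinj
  have hfin : PNil p (⊤ : Subgroup (G ⧸ M)) := by
    apply IH (G ⧸ M) hlt (hQc.quot G M hQ) Pb
    · rw [hZ]
      exact (hC.map _).mono (cent_lift _ M (P.2.to_le inf_le_left) hcop)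
    · rw [hJ]
      exact (hN.map _).mono (norm_lift _ M (P.2.to_le (JA_le _)) hcop)
  apply pNil_of_map_of_coprime_ker (QuotientGroup.mk' M) (by rw [hker]; exact hcop)
  rw [Subgroup.map_top_of_surjective _ hsurj]; exact hfin


theorem step1A {p : ℕ} [Fact p.Prime] {Q : ∀ (Γ : Type u) [Group Γ], Prop} (hQc : QClosed Q)
    {G : Type u} [Group G] [Finite G] (hQ : Q G) (hF : FrobHyp.{u} p)
    (IH : ∀ (G' : Type u) [Group G'] [Finite G'], Nat.card G' < Nat.card G → ThompsonStmtA p Q G')
    (P : Sylow p G)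
    (hC : PNil p (Subgroup.centralizer ((ZZ (P : Subgroup G) : Subgroup G) : Set G)))
    (hN : PNil p (Subgroup.normalizer ((JA (P : Subgroup G) : Subgroup G) : Set G)))
    (hnot : ¬ PNil p (⊤ : Subgroup G)) :
    ∃ H : Subgroup G, H.Normal ∧ H ≠ ⊥ ∧ H ≤ (P : Subgroup G) ∧
      ∀ H' : Subgroup G, H < H' → H' ≤ (P : Subgroup G) →
        (P : Subgroup G) ≤ Subgroup.normalizer (H' : Set G) →
        PNil p (Subgroup.normalizer (H' : Set G)) := by
  classical
  have hp : p.Prime := Fact.out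
  let Bad : Subgroup G → Prop := fun H => H ≤ (P : Subgroup G) ∧ H ≠ ⊥ ∧
      ¬ PNil p (Subgroup.normalizer (H : Set G)) ∧
      ¬ p ∣ ((P : Subgroup G) ⊓ Subgroup.normalizer (H : Set G)).relIndex
        (Subgroup.normalizer (H : Set G))
  have full : ∀ T : Subgroup G, T ≤ (P : Subgroup G) → T ≠ ⊥ →
      ¬ PNil p (Subgroup.normalizer (T : Set G)) →
      ∃ T' : Subgroup G, Bad T' ∧
        Nat.card ((P : Subgroup G) ⊓ Subgroup.normalizer (T : Set G) : Subgroup G) ≤
        Nat.card ((P : Subgroup G) ⊓ Subgroup.normalizer (T' : Set G) : Subgroup G) := by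
    intro T hTP hTne hTbad
    obtain ⟨g, h1, h2, h3⟩ := exists_fully_normalized_cj P T hTP
    refine ⟨T.map (MulAut.conj g).toMonoidHom, ⟨h1, ?_, ?_, h3⟩, ?_⟩
    · intro h
      exact hTne ((Subgroup.map_eq_bot_iff_of_injective T (MulAut.conj g).injective).mp h)
    · intro h
      apply hTbad
      rw [normalizer_cj] at h
      exact (pNil_map_iff _ (MulAut.conj g).injective _).mp h
    · have h4 : ((P : Subgroup G) ⊓ Subgroup.normalizer (T : Set G)).map
            (MulAut.conj g).toMonoidHom ≤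
          (P : Subgroup G) ⊓ Subgroup.normalizer
            ((T.map (MulAut.conj g).toMonoidHom : Subgroup G) : Set G) := by
        refine le_inf h2 ?_
        rw [normalizer_cj]
        exact cj_mono g inf_le_right
      calc Nat.card ((P : Subgroup G) ⊓ Subgroup.normalizer (T : Set G) : Subgroup G)
          = Nat.card (((P : Subgroup G) ⊓ Subgroup.normalizer (T : Set G)).map
              (MulAut.conj g).toMonoidHom) := (card_cj g _).symm
        _ ≤ _ := Subgroup.card_le_of_le h4
  obtain ⟨Q₀, hQ₀p, hQ₀ne, hQ₀bad⟩ := hF G hnot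
  obtain ⟨g₀, hg₀⟩ := exists_cj_le_sylow P hQ₀p
  have hT₀bad : ¬ PNil p (Subgroup.normalizer
      ((Q₀.map (MulAut.conj g₀).toMonoidHom : Subgroup G) : Set G)) := by
    intro h
    apply hQ₀bad
    rw [normalizer_cj] at h
    exact (pNil_map_iff _ (MulAut.conj g₀).injective _).mp h
  have hT₀ne : Q₀.map (MulAut.conj g₀).toMonoidHom ≠ ⊥ := fun h =>
    hQ₀ne ((Subgroup.map_eq_bot_iff_of_injective Q₀ (MulAut.conj g₀).injective).mp h)
  obtain ⟨T₁, hT₁, -⟩ := full _ hg₀ hT₀ne hT₀bad
  have hne : Nonempty {H : Subgroup G // Bad H} := ⟨⟨T₁, hT₁⟩⟩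
  obtain ⟨⟨H, hH⟩, hmax⟩ := Finite.exists_max (fun H : {H : Subgroup G // Bad H} =>
    toLex (Nat.card ((P : Subgroup G) ⊓ Subgroup.normalizer ((H : Subgroup G) : Set G) :
      Subgroup G), Nat.card (H : Subgroup G)))
  have hmax1 : ∀ T : Subgroup G, Bad T →
      Nat.card ((P : Subgroup G) ⊓ Subgroup.normalizer (T : Set G) : Subgroup G) ≤
      Nat.card ((P : Subgroup G) ⊓ Subgroup.normalizer (H : Set G) : Subgroup G) := by
    intro T hT
    have h1 := hmax ⟨T, hT⟩
    rcases Prod.Lex.toLex_le_toLex.mp h1 with h | h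
    · exact h.le
    · exact h.1.le
  have hmax2 : ∀ T : Subgroup G, Bad T →
      Nat.card ((P : Subgroup G) ⊓ Subgroup.normalizer (T : Set G) : Subgroup G) =
      Nat.card ((P : Subgroup G) ⊓ Subgroup.normalizer (H : Set G) : Subgroup G) →
      Nat.card T ≤ Nat.card H := by
    intro T hT heq
    have h1 := hmax ⟨T, hT⟩
    rcases Prod.Lex.toLex_le_toLex.mp h1 with h | h
    · exact absurd heq h.ne
    · exact h.2
  obtain ⟨hHP, hHne, hHbad, hHfull⟩ := hH
  have hRp : IsPGroup p ((P : Subgroup G) ⊓ Subgroup.normalizer (H : Set G) : Subgroup G) :=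
    P.2.to_le inf_le_left
  have hHR : H ≤ (P : Subgroup G) ⊓ Subgroup.normalizer (H : Set G) :=
    le_inf hHP Subgroup.le_normalizer
  have hRne : (P : Subgroup G) ⊓ Subgroup.normalizer (H : Set G) ≠ ⊥ :=
    fun h => hHne (le_bot_iff.mp (h ▸ hHR))
  have hRP : (P : Subgroup G) ⊓ Subgroup.normalizer (H : Set G) = (P : Subgroup G) := by
    by_contra hne'
    have hlt := lt_inf_normalizer P.2
      (inf_le_left : (P : Subgroup G) ⊓ Subgroup.normalizer (H : Set G) ≤ (P : Subgroup G)) hne'
    have key : ∀ T : Subgroup G, T ≤ (P : Subgroup G) ⊓ Subgroup.normalizer (H : Set G) → T ≠ ⊥ →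
        Subgroup.normalizer
          (((P : Subgroup G) ⊓ Subgroup.normalizer (H : Set G) : Subgroup G) : Set G) ≤
          Subgroup.normalizer (T : Set G) →
        PNil p (Subgroup.normalizer (T : Set G)) := by
      intro T hTR hTne hTn
      by_contra hTbad
      obtain ⟨T', hT', hcard⟩ := full T (hTR.trans inf_le_left) hTne hTbad
      have h1 := hmax1 T' hT'
      have h2 : Nat.card ((P : Subgroup G) ⊓ Subgroup.normalizer (H : Set G) : Subgroup G) <
          Nat.card ((P : Subgroup G) ⊓ Subgroup.normalizer (T : Set G) : Subgroup G) :=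
        lt_of_lt_of_le (card_lt_card_of_lt hlt) (Subgroup.card_le_of_le (inf_le_inf_left _ hTn))
      omega
    have hZ := key (ZZ _) inf_le_left (center_ne_bot hRp hRne) (normalizer_le_normalizer_center _)
    have hJ := key (JA _) (JA_le _) (JA_ne_bot hRne) (normalizer_le_normalizer_JA _)
    have hNtop : Subgroup.normalizer (H : Set G) ≠ ⊤ := by
      intro h
      apply hne'
      rw [h, inf_top_eq]
    apply hHbad
    exact ih_subA hQc hQ IH _ _ hNtop inf_le_right hRp hHfull
      (hZ.mono (inf_le_right.trans (Subgroup.centralizer_le_normalizer _)))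
      (hJ.mono inf_le_right)
  have hPN : (P : Subgroup G) ≤ Subgroup.normalizer (H : Set G) := by
    rw [← hRP]; exact inf_le_right
  have hNtop : Subgroup.normalizer (H : Set G) = ⊤ := by
    by_contra hne'
    apply hHbad
    have hidx : ¬ p ∣ (P : Subgroup G).relIndex (Subgroup.normalizer (H : Set G)) :=
      fun h => P.not_dvd_index (h.trans (Subgroup.relIndex_dvd_index_of_le hPN))
    exact ih_subA hQc hQ IH _ _ hne' hPN P.2 hidx (hC.mono inf_le_right) (hN.mono inf_le_right)
  refine ⟨H, Subgroup.normalizer_eq_top_iff.mp hNtop, hHne, hHP, ?_⟩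
  intro H' hlt hH'P hPH'
  by_contra hbad
  have hfull' : ¬ p ∣ ((P : Subgroup G) ⊓ Subgroup.normalizer (H' : Set G)).relIndex
      (Subgroup.normalizer (H' : Set G)) := by
    rw [inf_of_le_left hPH']
    exact fun h => P.not_dvd_index (h.trans (Subgroup.relIndex_dvd_index_of_le hPH'))
  have hB : Bad H' := ⟨hH'P, fun h => hHne (le_bot_iff.mp (h ▸ hlt.le)), hbad, hfull'⟩
  have h1 := hmax2 H' hB (by rw [inf_of_le_left hPH', hRP])
  exact absurd (card_lt_card_of_lt hlt) (not_lt.mpr h1)

/-- Thompson replacement against a normal abelian subgroup `V`: if `V` does not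
normalise the largest abelian subgroup `A` of `P`, some other largest
abelian subgroup `A'` normalises `A` and meets `V` in a strictly larger subgroup. -/
theorem replacement_stepA {p : ℕ} [Fact p.Prime] {G : Type*} [Group G] [Finite G]
    (P A V : Subgroup G) (hP : IsPGroup p P) (hA : MaxAb P A) (hV : Ab V) [hVn : V.Normal]
    (hVP : V ≤ P) (hVA : ¬ V ≤ Subgroup.normalizer (A : Set G)) :
    ∃ A' : Subgroup G, MaxAb P A' ∧
      Nat.card (A ⊓ V : Subgroup G) < Nat.card (A' ⊓ V : Subgroup G) ∧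
      A' ≤ Subgroup.normalizer (A : Set G) := by
  classical
  obtain ⟨hAP, hAEA, hAmax⟩ := hA
  have hDP : A ⊔ V ≤ P := sup_le hAP hVP
  have hDp : IsPGroup p (A ⊔ V : Subgroup G) := hP.to_le hDP
  have hM₁ne : (A ⊔ V) ⊓ Subgroup.normalizer (A : Set G) ≠ A ⊔ V := by
    intro h
    apply hVA
    have h1 : A ⊔ V ≤ Subgroup.normalizer (A : Set G) := by rw [← h]; exact inf_le_right
    exact le_sup_right.trans h1
  obtain ⟨x, hxD, hxN, hxM⟩ := exists_mem_normalizer_not_mem hDp
    (inf_le_left : (A ⊔ V) ⊓ Subgroup.normalizer (A : Set G) ≤ A ⊔ V) hM₁ne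
  obtain ⟨a₀, ha₀, v, hv, rfl⟩ := Subgroup.mem_sup_of_normal_right.mp hxD
  have hAM₁ : A ≤ (A ⊔ V) ⊓ Subgroup.normalizer (A : Set G) :=
    le_inf le_sup_left Subgroup.le_normalizer
  have hvN : v ∈ Subgroup.normalizer
      (((A ⊔ V) ⊓ Subgroup.normalizer (A : Set G) : Subgroup G) : Set G) := by
    have h1 : a₀⁻¹ ∈ Subgroup.normalizer
        (((A ⊔ V) ⊓ Subgroup.normalizer (A : Set G) : Subgroup G) : Set G) :=
      Subgroup.inv_mem _ (Subgroup.le_normalizer (hAM₁ ha₀))
    have h2 := Subgroup.mul_mem _ h1 hxN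
    simpa using h2
  have hvD : v ∈ A ⊔ V := (le_sup_right : V ≤ A ⊔ V) hv
  have hvA : v ∉ Subgroup.normalizer (A : Set G) := by
    intro h
    apply hxM
    exact Subgroup.mul_mem _ (hAM₁ ha₀) ⟨hvD, h⟩
  have hc1 : ∀ a ∈ A, v * a * v⁻¹ ∈ Subgroup.normalizer (A : Set G) := by
    intro a ha
    exact ((Subgroup.mem_normalizer_iff.mp hvN a).mp (hAM₁ ha)).2
  have hc2 : ∀ a ∈ A, v⁻¹ * a * v ∈ Subgroup.normalizer (A : Set G) := by
    intro a ha
    exact ((Subgroup.mem_normalizer_iff''.mp hvN a).mp (hAM₁ ha)).2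
  have hAvN : A.map (MulAut.conj v).toMonoidHom ≤ Subgroup.normalizer (A : Set G) := by
    rintro _ ⟨a, ha, rfl⟩
    exact hc1 a ha
  have hANv : A ≤ Subgroup.normalizer
      ((A.map (MulAut.conj v).toMonoidHom : Subgroup G) : Set G) := by
    intro a ha
    rw [normalizer_cj]
    exact ⟨v⁻¹ * a * v, hc2 a ha, by simp [MulAut.conj_apply, mul_assoc]⟩
  have hAvEA : Ab (A.map (MulAut.conj v).toMonoidHom) := hAEA.map _
  have hMN : A ⊔ A.map (MulAut.conj v).toMonoidHom ≤ Subgroup.normalizer (A : Set G) :=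
    sup_le Subgroup.le_normalizer hAvN
  have hD₀c : A ⊔ A.map (MulAut.conj v).toMonoidHom ≤
      Subgroup.centralizer ((A ⊓ A.map (MulAut.conj v).toMonoidHom : Subgroup G) : Set G) := by
    apply sup_le
    · intro a ha
      rw [Subgroup.mem_centralizer_iff]
      intro d hd
      exact hAEA d hd.1 a ha
    · intro b hb
      rw [Subgroup.mem_centralizer_iff]
      intro d hd
      exact hAvEA d hd.2 b hb
  have hcard1 : Nat.card (A ⊔ A.map (MulAut.conj v).toMonoidHom : Subgroup G) *
      Nat.card (A ⊓ A.map (MulAut.conj v).toMonoidHom : Subgroup G) = Nat.card A * Nat.card A := by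
    have h1 := card_sup_mul_card_inf' A (A.map (MulAut.conj v).toMonoidHom) hANv
    rw [card_cj] at h1
    exact h1
  have hMVn : A ⊔ A.map (MulAut.conj v).toMonoidHom ≤ Subgroup.normalizer
      (((A ⊔ A.map (MulAut.conj v).toMonoidHom) ⊓ V : Subgroup G) : Set G) := by
    intro m hm
    rw [Subgroup.mem_normalizer_iff]
    intro h
    constructor
    · rintro ⟨h1, h2⟩
      exact ⟨Subgroup.mul_mem _ (Subgroup.mul_mem _ hm h1) (Subgroup.inv_mem _ hm),
        hVn.conj_mem h h2 m⟩
    · rintro ⟨h1, h2⟩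
      refine ⟨?_, ?_⟩
      · have h3 := Subgroup.mul_mem _ (Subgroup.mul_mem _ (Subgroup.inv_mem _ hm) h1) hm
        simpa [mul_assoc] using h3
      · have h3 := hVn.conj_mem _ h2 m⁻¹
        simpa [mul_assoc] using h3
  have hcomm_mem : ∀ a ∈ A, v * a * v⁻¹ * a⁻¹ ∈
      (A ⊔ A.map (MulAut.conj v).toMonoidHom) ⊓ V := by
    intro a ha
    refine ⟨Subgroup.mul_mem _ ((le_sup_right : A.map (MulAut.conj v).toMonoidHom ≤ _)
      (cj_mem_cj ha)) (Subgroup.inv_mem _ ((le_sup_left : A ≤ _) ha)), ?_⟩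
    have h1 := V.mul_mem hv (hVn.conj_mem _ (V.inv_mem hv) a)
    simpa [mul_assoc] using h1
  have hAMV : A ⊔ ((A ⊔ A.map (MulAut.conj v).toMonoidHom) ⊓ V) =
      A ⊔ A.map (MulAut.conj v).toMonoidHom := by
    apply le_antisymm (sup_le le_sup_left inf_le_left)
    apply sup_le le_sup_left
    rintro _ ⟨a, ha, rfl⟩
    have h2 : (MulAut.conj v).toMonoidHom a = (v * a * v⁻¹ * a⁻¹) * a := by
      simp [MulAut.conj_apply]
    rw [h2]
    exact Subgroup.mul_mem _ ((le_sup_right : (A ⊔ A.map (MulAut.conj v).toMonoidHom) ⊓ V ≤ _)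
      (hcomm_mem a ha)) ((le_sup_left : A ≤ _) ha)
  have hcard2 : Nat.card (A ⊔ A.map (MulAut.conj v).toMonoidHom : Subgroup G) *
      Nat.card (A ⊓ V : Subgroup G) =
      Nat.card A * Nat.card ((A ⊔ A.map (MulAut.conj v).toMonoidHom) ⊓ V : Subgroup G) := by
    have h1 := card_sup_mul_card_inf' A ((A ⊔ A.map (MulAut.conj v).toMonoidHom) ⊓ V)
      ((le_sup_left : A ≤ A ⊔ A.map (MulAut.conj v).toMonoidHom).trans hMVn)
    rw [hAMV] at h1
    have h3 : A ⊓ ((A ⊔ A.map (MulAut.conj v).toMonoidHom) ⊓ V) = A ⊓ V := by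
      rw [← inf_assoc, inf_of_le_left (le_sup_left : A ≤ A ⊔ A.map (MulAut.conj v).toMonoidHom)]
    rw [h3] at h1
    exact h1
  have hcard3 : Nat.card ((A ⊓ A.map (MulAut.conj v).toMonoidHom) ⊔
        ((A ⊔ A.map (MulAut.conj v).toMonoidHom) ⊓ V) : Subgroup G) *
      Nat.card ((A ⊓ A.map (MulAut.conj v).toMonoidHom) ⊓ V : Subgroup G) =
      Nat.card (A ⊓ A.map (MulAut.conj v).toMonoidHom : Subgroup G) *
        Nat.card ((A ⊔ A.map (MulAut.conj v).toMonoidHom) ⊓ V : Subgroup G) := by
    have h0 : A ⊓ A.map (MulAut.conj v).toMonoidHom ≤ A ⊔ A.map (MulAut.conj v).toMonoidHom :=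
      inf_le_left.trans le_sup_left
    have h1 := card_sup_mul_card_inf' (A ⊓ A.map (MulAut.conj v).toMonoidHom)
      ((A ⊔ A.map (MulAut.conj v).toMonoidHom) ⊓ V) (h0.trans hMVn)
    have h3 : (A ⊓ A.map (MulAut.conj v).toMonoidHom) ⊓
        ((A ⊔ A.map (MulAut.conj v).toMonoidHom) ⊓ V) =
        (A ⊓ A.map (MulAut.conj v).toMonoidHom) ⊓ V := by
      rw [← inf_assoc, inf_of_le_left h0]
    rw [h3] at h1
    exact h1
  have hA'EA : Ab ((A ⊓ A.map (MulAut.conj v).toMonoidHom) ⊔
        ((A ⊔ A.map (MulAut.conj v).toMonoidHom) ⊓ V) : Subgroup G) := by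
    apply Ab.sup (hAEA.mono inf_le_left) (hV.mono inf_le_right)
    intro d hd m hm
    exact (Subgroup.mem_centralizer_iff.mp (hD₀c hm.1) d hd)
  have hA'P : (A ⊓ A.map (MulAut.conj v).toMonoidHom) ⊔
        ((A ⊔ A.map (MulAut.conj v).toMonoidHom) ⊓ V) ≤ P :=
    sup_le (inf_le_left.trans hAP) (inf_le_right.trans hVP)
  have h5 : Nat.card ((A ⊓ A.map (MulAut.conj v).toMonoidHom) ⊔
        ((A ⊔ A.map (MulAut.conj v).toMonoidHom) ⊓ V) : Subgroup G) *
      Nat.card ((A ⊓ A.map (MulAut.conj v).toMonoidHom) ⊓ V : Subgroup G) =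
      Nat.card A * Nat.card (A ⊓ V : Subgroup G) := by
    have hpos2 : 0 < Nat.card A := Nat.card_pos
    have h6 : Nat.card ((A ⊓ A.map (MulAut.conj v).toMonoidHom) ⊔
        ((A ⊔ A.map (MulAut.conj v).toMonoidHom) ⊓ V) : Subgroup G) *
      Nat.card ((A ⊓ A.map (MulAut.conj v).toMonoidHom) ⊓ V : Subgroup G) * Nat.card A =
      Nat.card A * Nat.card (A ⊓ V : Subgroup G) * Nat.card A := by
      calc _ = Nat.card (A ⊓ A.map (MulAut.conj v).toMonoidHom : Subgroup G) *
            (Nat.card A * Nat.card ((A ⊔ A.map (MulAut.conj v).toMonoidHom) ⊓ V : Subgroup G)) := by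
              rw [hcard3]; ring
        _ = Nat.card (A ⊓ A.map (MulAut.conj v).toMonoidHom : Subgroup G) *
            (Nat.card (A ⊔ A.map (MulAut.conj v).toMonoidHom : Subgroup G) *
              Nat.card (A ⊓ V : Subgroup G)) := by rw [hcard2]
        _ = (Nat.card (A ⊔ A.map (MulAut.conj v).toMonoidHom : Subgroup G) *
              Nat.card (A ⊓ A.map (MulAut.conj v).toMonoidHom : Subgroup G)) *
              Nat.card (A ⊓ V : Subgroup G) := by ring
        _ = _ := by rw [hcard1]; ring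
    exact Nat.eq_of_mul_eq_mul_right hpos2 h6
  have hle : Nat.card A ≤ Nat.card ((A ⊓ A.map (MulAut.conj v).toMonoidHom) ⊔
        ((A ⊔ A.map (MulAut.conj v).toMonoidHom) ⊓ V) : Subgroup G) := by
    have hpos1 : 0 < Nat.card ((A ⊓ A.map (MulAut.conj v).toMonoidHom) ⊓ V : Subgroup G) :=
      Nat.card_pos
    have h4 : Nat.card ((A ⊓ A.map (MulAut.conj v).toMonoidHom) ⊓ V : Subgroup G) ≤
        Nat.card (A ⊓ V : Subgroup G) := Subgroup.card_le_of_le (inf_le_inf_right _ inf_le_left)
    by_contra hlt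
    rw [not_le] at hlt
    nlinarith
  refine ⟨_, ⟨hA'P, hA'EA, fun B hB hBEA => (hAmax B hB hBEA).trans hle⟩, ?_, ?_⟩
  · apply card_lt_card_of_lt
    refine lt_of_le_of_ne ?_ ?_
    · exact le_inf ((inf_le_inf_right V (le_sup_left : A ≤ _)).trans le_sup_right) inf_le_right
    · intro heq
      apply hvA
      apply mem_normalizer_of_cj_le
      rintro _ ⟨a, ha, rfl⟩
      have h1 : v * a * v⁻¹ * a⁻¹ ∈ ((A ⊓ A.map (MulAut.conj v).toMonoidHom) ⊔
          ((A ⊔ A.map (MulAut.conj v).toMonoidHom) ⊓ V)) ⊓ V :=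
        ⟨(le_sup_right : (A ⊔ A.map (MulAut.conj v).toMonoidHom) ⊓ V ≤ _) (hcomm_mem a ha),
          (hcomm_mem a ha).2⟩
      rw [← heq] at h1
      have h2 : (MulAut.conj v).toMonoidHom a = (v * a * v⁻¹ * a⁻¹) * a := by
        simp [MulAut.conj_apply]
      rw [h2]
      exact A.mul_mem h1.1 ha
  · exact sup_le (inf_le_left.trans Subgroup.le_normalizer) (inf_le_left.trans hMN)

theorem step2A {p : ℕ} [Fact p.Prime] {Q : ∀ (Γ : Type u) [Group Γ], Prop} (hQc : QClosed Q)
    {G : Type u} [Group G] [Finite G] (hQ : Q G)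
    (IH : ∀ (G' : Type u) [Group G'] [Finite G'], Nat.card G' < Nat.card G → ThompsonStmtA p Q G')
    (P : Sylow p G)
    (hC : PNil p (Subgroup.centralizer ((ZZ (P : Subgroup G) : Subgroup G) : Set G)))
    (hN : PNil p (Subgroup.normalizer ((JA (P : Subgroup G) : Subgroup G) : Set G)))
    (hnot : ¬ PNil p (⊤ : Subgroup G))
    (H : Subgroup G) (hHn : H.Normal) (hHne : H ≠ ⊥) (hHP : H ≤ (P : Subgroup G))
    (hbig : ∀ H' : Subgroup G, H < H' → H' ≤ (P : Subgroup G) →
        (P : Subgroup G) ≤ Subgroup.normalizer (H' : Set G) →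
        PNil p (Subgroup.normalizer (H' : Set G))) :
    ∃ K V A : Subgroup G, MinCfg p (P : Subgroup G) H K V A := by
  classical
  have hp : p.Prime := Fact.out
  have hHp : IsPGroup p H := P.2.to_le hHP
  -- no nontrivial normal p'-subgroups
  have hOp' : ∀ M : Subgroup G, M.Normal → (Nat.card M).Coprime p → M = ⊥ := by
    intro M hMn hMc
    by_contra hM
    exact hnot (ih_pquotA hQc hQ IH P hC hN M hM hMc)
  have hquot : PNil p (⊤ : Subgroup (G ⧸ H)) := ih_quotA hQc hQ IH P H hHne hHP hbig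
  have hsurj : Function.Surjective (QuotientGroup.mk' H) := QuotientGroup.mk'_surjective H
  have hker : (QuotientGroup.mk' H).ker = H := QuotientGroup.ker_mk' H
  have hmemH : ∀ g : G, QuotientGroup.mk' H g = 1 ↔ g ∈ H := by
    intro g
    rw [← MonoidHom.mem_ker, hker]
  have hKn : ((pComp p hquot).comap (QuotientGroup.mk' H)).Normal := inferInstance
  have hmemK : ∀ g : G, g ∈ (pComp p hquot).comap (QuotientGroup.mk' H) ↔
      (orderOf (QuotientGroup.mk' H g)).Coprime p := fun g => Iff.rfl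
  have hHK : H ≤ (pComp p hquot).comap (QuotientGroup.mk' H) := by
    intro h hh
    rw [hmemK, (hmemH h).mpr hh, orderOf_one]
    exact Nat.coprime_one_left p
  have hK2 : ∀ g : G, (orderOf g).Coprime p → g ∈ (pComp p hquot).comap (QuotientGroup.mk' H) :=
    fun g hg => (hmemK g).mpr (Nat.Coprime.coprime_dvd_left (orderOf_map_dvd _ g) hg)
  have hK3 : ∀ k ∈ (pComp p hquot).comap (QuotientGroup.mk' H),
      ∃ m : ℕ, m.Coprime p ∧ k ^ m ∈ H := by
    intro k hk
    refine ⟨orderOf (QuotientGroup.mk' H k), (hmemK k).mp hk, ?_⟩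
    rw [← hmemH, map_pow, pow_orderOf_eq_one]
  have hK4 : ∀ k ∈ (pComp p hquot).comap (QuotientGroup.mk' H), ∀ j : ℕ, k ^ p ^ j = 1 → k ∈ H := by
    intro k hk j hj
    have h1 : (QuotientGroup.mk' H k) ^ p ^ j = 1 := by rw [← map_pow, hj, map_one]
    exact (hmemH k).mp (eq_one_of_pow_of_coprime h1 ((hmemK k).mp hk))
  have hKP : (pComp p hquot).comap (QuotientGroup.mk' H) ⊓ (P : Subgroup G) = H := by
    apply le_antisymm
    · rintro k ⟨hk, hkP⟩
      obtain ⟨j, hj⟩ := isPGroup_pow_eq_one P.2 hkP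
      exact hK4 k hk j hj
    · exact le_inf hHK hHP
  -- H is the largest normal p-subgroup
  have hOp : ∀ X : Subgroup G, X.Normal → IsPGroup p X → X ≤ H := by
    intro X hXn hXp
    have hYp : IsPGroup p (X ⊔ H : Subgroup G) := IsPGroup.to_sup_of_normal_right hXp hHp
    have hYn : (X ⊔ H).Normal := inferInstance
    have hYP : X ⊔ H ≤ (P : Subgroup G) := normal_pgroup_le_sylow' _ hYp P
    by_contra hXH
    have hlt : H < X ⊔ H := lt_of_le_of_ne le_sup_right (fun h => hXH (h ▸ le_sup_left))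
    have h1 := hbig _ hlt hYP (by rw [Subgroup.normalizer_eq_top_iff.mpr hYn]; exact le_top)
    rw [Subgroup.normalizer_eq_top_iff.mpr hYn] at h1
    exact hnot h1
  -- C_G(H) ≤ H
  have hCH : Subgroup.centralizer (H : Set G) ≤ H := by
    have hCn : (Subgroup.centralizer (H : Set G)).Normal := inferInstance
    apply hOp _ hCn
    apply isPGroup_of_forall_coprime_eq_one
    intro x hxC hxo
    have hL : ∀ y ∈ Subgroup.centralizer (H : Set G) ⊓ (pComp p hquot).comap (QuotientGroup.mk' H),
        ∀ k : ℕ, y ^ p ^ k = 1 →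
        ∀ c ∈ Subgroup.centralizer (H : Set G) ⊓ (pComp p hquot).comap (QuotientGroup.mk' H),
        c * y = y * c := by
      intro y hy k hk c hc
      have hyH : y ∈ H := hK4 y hy.2 k hk
      exact (Subgroup.mem_centralizer_iff.mp hc.1 y hyH).symm
    obtain ⟨L₀, hL₀le, hL₀cop, hL₀mem⟩ := exists_p'_subgroup _ hL
    have hLn : (Subgroup.centralizer (H : Set G) ⊓
        (pComp p hquot).comap (QuotientGroup.mk' H)).Normal := inferInstance
    have hL₀n : L₀.Normal := by
      constructor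
      intro y hy g
      rw [hL₀mem] at hy ⊢
      refine ⟨hLn.conj_mem y hy.1 g, ?_⟩
      rw [orderOf_conj_eq]; exact hy.2
    have hL₀bot := hOp' L₀ hL₀n hL₀cop
    have h1 : x ∈ L₀ := (hL₀mem x).mpr ⟨⟨hxC, hK2 x hxo⟩, hxo⟩
    rw [hL₀bot, Subgroup.mem_bot] at h1
    exact h1
  -- P is a maximal subgroup
  have hPmax : ∀ M : Subgroup G, (P : Subgroup G) ≤ M → M ≠ ⊤ → M = (P : Subgroup G) := by
    intro M hPM hM
    have hidx : ¬ p ∣ (P : Subgroup G).relIndex M :=
      fun h => P.not_dvd_index (h.trans (Subgroup.relIndex_dvd_index_of_le hPM))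
    have hMnil := ih_subA hQc hQ IH M P hM hPM P.2 hidx (hC.mono inf_le_right) (hN.mono inf_le_right)
    have hMp : IsPGroup p M := by
      apply isPGroup_of_forall_coprime_eq_one
      intro x hxM hxo
      have h1 : x ∈ Subgroup.centralizer (H : Set G) :=
        hMnil.mem_centralizer hxM hxo hHp (hHP.trans hPM)
          (by rw [Subgroup.normalizer_eq_top_iff.mpr hHn]; exact Subgroup.mem_top x)
      obtain ⟨k, hk⟩ := isPGroup_pow_eq_one hHp (hCH h1)
      exact eq_one_of_pow_of_coprime hk hxo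
    exact P.is_maximal' hMp hPM
  have hPtop : (P : Subgroup G) ≠ ⊤ := by
    intro h
    apply hnot
    rw [← h]; exact pNil_of_isPGroup P.2
  have hex : ∃ x : G, (orderOf x).Coprime p ∧ x ≠ 1 := by
    by_contra h
    apply hnot
    intro x _ y _ hx hy
    have hx1 : x = 1 := by
      by_contra hx1
      exact h ⟨x, hx, hx1⟩
    have hy1 : y = 1 := by
      by_contra hy1
      exact h ⟨y, hy, hy1⟩
    rw [hx1, hy1]; simp
  have hCZ : Subgroup.centralizer ((ZZ (P : Subgroup G) : Subgroup G) : Set G) = (P : Subgroup G) := by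
    apply hPmax
    · intro x hx
      rw [Subgroup.mem_centralizer_iff]
      intro z hz
      exact (Subgroup.mem_centralizer_iff.mp hz.2 x hx).symm
    · intro h
      apply hnot; rw [← h]; exact hC
  have hNJ : Subgroup.normalizer ((JA (P : Subgroup G) : Subgroup G) : Set G) = (P : Subgroup G) := by
    apply hPmax
    · exact Subgroup.le_normalizer.trans (normalizer_le_normalizer_JA _)
    · intro h
      apply hnot; rw [← h]; exact hN
  -- V = Ω₁(Z(H))
  have hZHab : ∀ a ∈ ZZ H, ∀ b ∈ ZZ H, a * b = b * a :=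
    fun a ha b hb => Subgroup.mem_centralizer_iff.mp hb.2 a ha.1
  let V : Subgroup G :=
    { carrier := {z | z ∈ ZZ H ∧ z ^ p = 1}
      one_mem' := ⟨Subgroup.one_mem _, one_pow p⟩
      mul_mem' := fun {a b} ha hb => ⟨Subgroup.mul_mem _ ha.1 hb.1, by
        have hc : Commute a b := hZHab a ha.1 b hb.1
        rw [hc.mul_pow, ha.2, hb.2, one_mul]⟩
      inv_mem' := fun {a} ha => ⟨Subgroup.inv_mem _ ha.1, by rw [inv_pow, ha.2, inv_one]⟩ }
  have hZHn : (ZZ H).Normal := by
    rw [← Subgroup.normalizer_eq_top_iff]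
    apply top_le_iff.mp
    calc (⊤ : Subgroup G) = Subgroup.normalizer (H : Set G) :=
          (Subgroup.normalizer_eq_top_iff.mpr hHn).symm
      _ ≤ _ := normalizer_le_normalizer_center H
  have hZHp : IsPGroup p (ZZ H) := hHp.to_le inf_le_left
  have hVn : V.Normal := ⟨fun z hz g => ⟨hZHn.conj_mem z hz.1 g, by
    rw [conj_pow, hz.2]; group⟩⟩
  have hVab : ∀ a ∈ V, ∀ b ∈ V, a * b = b * a := fun a ha b hb => hZHab a ha.1 b hb.1
  have hVH : V ≤ H := fun z hz => hz.1.1
  have hHW : H ≤ Subgroup.centralizer (V : Set G) := by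
    intro h hh
    rw [Subgroup.mem_centralizer_iff]
    intro v hv
    exact (Subgroup.mem_centralizer_iff.mp hv.1.2 h hh).symm
  have hWH : Subgroup.centralizer (V : Set G) ≤ H := by
    have hWn : (Subgroup.centralizer (V : Set G)).Normal := inferInstance
    by_cases hWP : Subgroup.centralizer (V : Set G) ⊔ (P : Subgroup G) = ⊤
    · exfalso
      obtain ⟨n, hn⟩ := IsPGroup.iff_card.mp P.2
      have h1 : (Subgroup.centralizer (V : Set G)).index ∣ p ^ n := by
        rw [← hn, ← Subgroup.relIndex_top_right, ← hWP, Subgroup.relIndex_sup_left]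
        exact Subgroup.relIndex_dvd_card _ _
      obtain ⟨j, -, hj⟩ := (Nat.dvd_prime_pow hp).mp h1
      obtain ⟨x, hxo, hx1⟩ := hex
      have hxW : x ∈ Subgroup.centralizer (V : Set G) := mem_of_coprime_order_of_index _ hj hxo
      have h2 : ∀ b ∈ ZZ H, x * b * x⁻¹ = b := by
        apply centralizes_of_centralizes_omega (ZZ H) hZHab hZHp x
          (by rw [Subgroup.normalizer_eq_top_iff.mpr hZHn]; exact Subgroup.mem_top x) hxo
        intro b hb hbp
        have hbV : b ∈ V := ⟨hb, hbp⟩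
        have h3 := Subgroup.mem_centralizer_iff.mp hxW b hbV
        rw [← h3]; group
      have h3 : ZZ (P : Subgroup G) ≤ ZZ H := by
        intro z hz
        have hzC : z ∈ Subgroup.centralizer (H : Set G) :=
          Subgroup.centralizer_le (SetLike.coe_subset_coe.mpr hHP) hz.2
        exact ⟨hCH hzC, hzC⟩
      have h4 : x ∈ Subgroup.centralizer ((ZZ (P : Subgroup G) : Subgroup G) : Set G) := by
        rw [Subgroup.mem_centralizer_iff]
        intro z hz
        have h5 := h2 z (h3 hz)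
        exact (mul_inv_eq_iff_eq_mul.mp h5).symm
      rw [hCZ] at h4
      obtain ⟨k, hk⟩ := isPGroup_pow_eq_one P.2 h4
      exact hx1 (eq_one_of_pow_of_coprime hk hxo)
    · have h1 := hPmax _ le_sup_right hWP
      have h2 : Subgroup.centralizer (V : Set G) ≤ (P : Subgroup G) := by
        rw [← h1]; exact le_sup_left
      exact hOp _ hWn (P.2.to_le h2)
  -- K ⊔ P = ⊤
  have hKPtop : (pComp p hquot).comap (QuotientGroup.mk' H) ⊔ (P : Subgroup G) = ⊤ := by
    by_contra h
    have h1 := hPmax _ le_sup_right h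
    have h2 : (pComp p hquot).comap (QuotientGroup.mk' H) ≤ (P : Subgroup G) := by
      rw [← h1]; exact le_sup_left
    obtain ⟨x, hxo, hx1⟩ := hex
    have hxH : x ∈ H := by
      rw [← hKP]; exact ⟨hK2 x hxo, h2 (hK2 x hxo)⟩
    obtain ⟨k, hk⟩ := isPGroup_pow_eq_one hHp hxH
    exact hx1 (eq_one_of_pow_of_coprime hk hxo)
  have hcardK : Nat.card (P : Subgroup G) *
      Nat.card ((pComp p hquot).comap (QuotientGroup.mk' H) : Subgroup G) =
      Nat.card G * Nat.card H := by
    have h1 := card_sup_mul_card_inf' (P : Subgroup G) ((pComp p hquot).comap (QuotientGroup.mk' H))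
      (by rw [Subgroup.normalizer_eq_top_iff.mpr hKn]; exact le_top)
    rw [sup_comm, hKPtop, inf_comm, hKP, Subgroup.card_top] at h1
    exact h1.symm
  -- minimality of K over H under P
  have hmin : ∀ K₀ : Subgroup G, H ≤ K₀ → K₀ ≤ (pComp p hquot).comap (QuotientGroup.mk' H) →
      (P : Subgroup G) ≤ Subgroup.normalizer (K₀ : Set G) →
      K₀ = H ∨ K₀ = (pComp p hquot).comap (QuotientGroup.mk' H) := by
    intro K₀ hHK₀ hK₀K hPK₀
    have hK₀P : K₀ ⊓ (P : Subgroup G) = H :=
      le_antisymm (by rw [← hKP]; exact inf_le_inf_right _ hK₀K) (le_inf hHK₀ hHP)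
    by_cases htop : K₀ ⊔ (P : Subgroup G) = ⊤
    · right
      have h1 := card_sup_mul_card_inf' (P : Subgroup G) K₀ hPK₀
      rw [sup_comm, htop, inf_comm, hK₀P, Subgroup.card_top] at h1
      have h2 : Nat.card K₀ = Nat.card ((pComp p hquot).comap (QuotientGroup.mk' H) : Subgroup G) := by
        have hPpos : 0 < Nat.card (P : Subgroup G) := Nat.card_pos
        exact Nat.eq_of_mul_eq_mul_left hPpos (h1.symm.trans hcardK.symm)
      exact Subgroup.eq_of_le_of_card_ge hK₀K h2.ge
    · left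
      have h1 := hPmax _ le_sup_right htop
      have h2 : K₀ ≤ (P : Subgroup G) := by rw [← h1]; exact le_sup_left
      rw [← hK₀P]; exact (inf_of_le_left h2).symm
  -- K/H is abelian
  have hKbne : pComp p hquot ≠ ⊥ := by
    intro h
    obtain ⟨x, hxo, hx1⟩ := hex
    have h1 : QuotientGroup.mk' H x ∈ pComp p hquot := hK2 x hxo
    rw [h, Subgroup.mem_bot, hmemH] at h1
    obtain ⟨k, hk⟩ := isPGroup_pow_eq_one hHp h1
    exact hx1 (eq_one_of_pow_of_coprime hk hxo)
  have hKbab : ∀ x ∈ pComp p hquot, ∀ y ∈ pComp p hquot, x * y = y * x := by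
    apply abelian_of_minimal_invariant (pComp p hquot) ((P : Subgroup G).map (QuotientGroup.mk' H))
      (card_pComp_coprime hquot) (fun x hx => hx) (P.2.map _) hKbne
    intro X hXK hXn
    have h1 : H ≤ X.comap (QuotientGroup.mk' H) := by
      have h2 := MonoidHom.ker_le_comap (QuotientGroup.mk' H) X
      rwa [hker] at h2
    have h2 : (P : Subgroup G) ≤
        Subgroup.normalizer ((X.comap (QuotientGroup.mk' H) : Subgroup G) : Set G) := by
      rw [← Subgroup.comap_normalizer_eq_of_surjective X hsurj]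
      exact (Subgroup.le_comap_map _ _).trans (Subgroup.comap_mono hXn)
    rcases hmin _ h1 (Subgroup.comap_mono hXK) h2 with h3 | h3
    · left
      rw [← Subgroup.map_comap_eq_self_of_surjective hsurj X, h3]
      exact (Subgroup.map_eq_bot_iff H).mpr hker.ge
    · right
      rw [← Subgroup.map_comap_eq_self_of_surjective hsurj X, h3,
        Subgroup.map_comap_eq_self_of_surjective hsurj]
  -- a largest elementary abelian subgroup not inside H, with A ⊓ V maximal
  have hexA : ∃ A, MaxAb (P : Subgroup G) A ∧ ¬ A ≤ H := by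
    by_contra h
    have h1 : ∀ A, MaxAb (P : Subgroup G) A → A ≤ H := by
      intro A hA
      by_contra hAH
      exact h ⟨A, hA, hAH⟩
    have h2 := JA_eq_of_forall_le hHP h1
    have h3 : Subgroup.normalizer ((JA (P : Subgroup G) : Subgroup G) : Set G) = ⊤ := by
      apply top_le_iff.mp
      rw [h2]
      calc (⊤ : Subgroup G) = Subgroup.normalizer (H : Set G) :=
            (Subgroup.normalizer_eq_top_iff.mpr hHn).symm
        _ ≤ _ := normalizer_le_normalizer_JA H
    rw [hNJ] at h3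
    exact hPtop h3
  obtain ⟨A₀, hA₀⟩ := hexA
  have hneA : Nonempty {A : Subgroup G // MaxAb (P : Subgroup G) A ∧ ¬ A ≤ H} := ⟨⟨A₀, hA₀⟩⟩
  obtain ⟨⟨A, hA, hAH⟩, hAmax⟩ := Finite.exists_max
    (fun A : {A : Subgroup G // MaxAb (P : Subgroup G) A ∧ ¬ A ≤ H} =>
      Nat.card ((A : Subgroup G) ⊓ V : Subgroup G))
  have hVA : V ≤ Subgroup.normalizer (A : Set G) := by
    by_contra hVA
    obtain ⟨A', hA', hlt, hA'N⟩ := replacement_stepA (P : Subgroup G) A V P.2 hA hVab
      (hVH.trans hHP) hVA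
    have hA'H : A' ≤ H := by
      by_contra hA'H
      have h1 := hAmax ⟨A', hA', hA'H⟩
      exact absurd hlt (not_lt.mpr h1)
    -- V ≤ A'
    have h2 : Ab (A' ⊔ V : Subgroup G) := by
      apply Ab.sup hA'.2.1 hVab
      intro a ha v hv
      exact (Subgroup.mem_centralizer_iff.mp hv.1.2 a (hA'H ha))
    have h3 := hA'.2.2 _ (sup_le hA'.1 (hVH.trans hHP)) h2
    have h4 : A' ⊔ V = A' := (Subgroup.eq_of_le_of_card_ge le_sup_left h3).symm
    apply hVA
    exact (le_sup_right.trans h4.le).trans hA'N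
  -- the subgroup of P centralising K modulo H is normal, hence inside H
  have hP₀ : (P : Subgroup G) ⊓
      (Subgroup.centralizer ((pComp p hquot : Subgroup (G ⧸ H)) : Set (G ⧸ H))).comap
        (QuotientGroup.mk' H) ≤ H := by
    have hP₀p : IsPGroup p ((P : Subgroup G) ⊓
      (Subgroup.centralizer ((pComp p hquot : Subgroup (G ⧸ H)) : Set (G ⧸ H))).comap
        (QuotientGroup.mk' H) : Subgroup G) := P.2.to_le inf_le_left
    have hC₁n : ((Subgroup.centralizer ((pComp p hquot : Subgroup (G ⧸ H)) : Set (G ⧸ H))).comap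
        (QuotientGroup.mk' H)).Normal := inferInstance
    have hHP₀ : H ≤ (P : Subgroup G) ⊓
        (Subgroup.centralizer ((pComp p hquot : Subgroup (G ⧸ H)) : Set (G ⧸ H))).comap
          (QuotientGroup.mk' H) := by
      refine le_inf hHP ?_
      intro h hh
      rw [Subgroup.mem_comap, (hmemH h).mpr hh]
      exact Subgroup.one_mem _
    apply hOp _ _ hP₀p
    rw [← Subgroup.normalizer_eq_top_iff, ← top_le_iff, ← hKPtop]
    apply sup_le
    · -- K normalises
      intro k hk
      apply mem_normalizer_of_cj_le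
      rintro _ ⟨y, hy, rfl⟩
      have h1 : k * y * k⁻¹ * y⁻¹ ∈ H := by
        rw [← hmemH, map_mul, map_mul, map_mul, map_inv, map_inv]
        have h2 := Subgroup.mem_centralizer_iff.mp hy.2 (QuotientGroup.mk' H k) hk
        rw [h2]; group
      have h3 : (MulAut.conj k).toMonoidHom y = (k * y * k⁻¹ * y⁻¹) * y := by
        simp [MulAut.conj_apply]
      rw [h3]
      exact Subgroup.mul_mem _ (hHP₀ h1) hy
    · -- P normalises
      intro u hu
      apply mem_normalizer_of_cj_le
      rintro _ ⟨y, hy, rfl⟩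
      exact ⟨P.1.mul_mem (P.1.mul_mem hu hy.1) (P.1.inv_mem hu), hC₁n.conj_mem y hy.2 u⟩
  refine ⟨(pComp p hquot).comap (QuotientGroup.mk' H), V, A, ?_⟩
  exact
    { hP := P.2
      hHn := hHn
      hKn := hKn
      hVn := hVn
      hHP := hHP
      hKP := hKP
      hKPtop := hKPtop
      hKp' := hK3
      hKab := by
        intro x hx y hy
        apply (hmemH _).mp
        rw [map_mul, map_mul, map_inv, map_mul, hKbab _ hx _ hy]
        group
      hCH := hCH
      hOp := hOp
      hVab := hVab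
      hVexp := fun a ha => ha.2
      hVH := hVH
      hHV := hHW
      hCV := hWH
      hA := hA
      hAH := hAH
      hVA := hVA
      hfaith := by
        intro a haP hacent
        apply hP₀
        refine ⟨haP, ?_⟩
        show QuotientGroup.mk' H a ∈
          Subgroup.centralizer ((pComp p hquot : Subgroup (G ⧸ H)) : Set (G ⧸ H))
        rw [Subgroup.mem_centralizer_iff]
        intro kb hkb
        obtain ⟨k, rfl⟩ := hsurj kb
        have h1 := (hmemH _).mpr (hacent k hkb)
        rw [map_mul, map_mul, map_mul, map_inv, map_inv] at h1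
        have h2 : QuotientGroup.mk' H a * QuotientGroup.mk' H k =
            QuotientGroup.mk' H k * QuotientGroup.mk' H a := by
          have h3 := mul_inv_eq_one.mp h1
          exact mul_inv_eq_iff_eq_mul.mp h3
        exact h2.symm
      hpmax := hPmax }


/-- For odd `p` the minimal configuration is impossible (quadratic action). -/
theorem minCfg_false_of_odd {p : ℕ} [Fact p.Prime] (hp2 : p ≠ 2) {G : Type*} [Group G] [Finite G]
    {P H K V A : Subgroup G} (h : MinCfg p P H K V A) : False := by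
  classical
  obtain ⟨a, haA, haH⟩ := SetLike.not_le_iff_exists.mp h.hAH
  have hVn : V.Normal := h.hVn
  have hKn : K.Normal := h.hKn
  have hVab := h.hVab
  let _ : CommGroup V :=
    { (inferInstance : Group V) with mul_comm := fun x y => Subtype.ext (hVab x x.2 y y.2) }
  have hφker : ∀ g : G, g ∈ H → (MulAut.conjNormal g : MulAut V) = 1 :=
    fun g hg => (conjNormal_eq_one_iff V g).mpr (h.hHV hg)
  have hfinal := quad_frob (MulAut.conjNormal : G →* MulAut V) hp2
    (fun w => Subtype.ext (h.hVexp w w.2)) a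
    (by
      intro w
      apply Subtype.ext
      have hw : (w : G) ∈ Subgroup.normalizer (A : Set G) := h.hVA w.2
      have h1 : (w : G) * a⁻¹ * (w : G)⁻¹ ∈ A :=
        (Subgroup.mem_normalizer_iff.mp hw a⁻¹).mp (A.inv_mem haA)
      have h2 : a * (w : G) * a⁻¹ * (w : G)⁻¹ ∈ A := by
        have h3 := A.mul_mem haA h1
        simpa [mul_assoc] using h3
      have h3 : a * (a * (w : G) * a⁻¹ * (w : G)⁻¹) = (a * (w : G) * a⁻¹ * (w : G)⁻¹) * a :=
        h.hA.2.1 a haA _ h2
      simp only [Subgroup.coe_mul, MulAut.conjNormal_apply, InvMemClass.coe_inv]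
      rw [h3]; group)
    K
    (fun k hk => hKn.conj_mem k hk a)
    (by
      intro x hx y hy
      have h2 := hφker _ (h.hKab x hx y hy)
      have h3 : x * y = (x * y * (y * x)⁻¹) * (y * x) := by group
      rw [h3, map_mul, h2, one_mul])
    (by
      intro k hk
      obtain ⟨m, hm, hmH⟩ := h.hKp' k hk
      exact ⟨m, hm, hφker _ hmH⟩)
  exact haH (h.hfaith a (h.hA.1 haA)
    (fun k hk => h.hCV ((conjNormal_eq_one_iff V _).mp (hfinal k hk))))

/-- **Thompson's normal `p`-complement theorem, abelian `J`**, relative to the Frobenius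
criterion, a class `Q` closed under subgroups and quotients, and a final step excluding the
minimal configuration in groups of the class `Q`. -/
theorem thompson_npcA_aux {p : ℕ} [Fact p.Prime] {Q : ∀ (Γ : Type u) [Group Γ], Prop}
    (hQc : QClosed Q)
    (hfin : ∀ (G : Type u) [Group G] [Finite G], Q G →
      ∀ P H K V A : Subgroup G, MinCfg p P H K V A → False)
    (hF : FrobHyp.{u} p) :
    ∀ n : ℕ, ∀ (G : Type u) [Group G] [Finite G], Nat.card G = n → ThompsonStmtA p Q G := by
  intro n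
  induction n using Nat.strong_induction_on with
  | _ n ih =>
    intro G _ _ hcard hQ P hC hN
    by_contra hnot
    have IH : ∀ (G' : Type u) [Group G'] [Finite G'], Nat.card G' < Nat.card G →
        ThompsonStmtA p Q G' := fun G' _ _ h => ih _ (hcard ▸ h) G' rfl
    obtain ⟨H, hHn, hHne, hHP, hbig⟩ := step1A hQc hQ hF IH P hC hN hnot
    obtain ⟨K, V, A, hcfg⟩ := step2A hQc hQ IH P hC hN hnot H hHn hHne hHP hbig
    exact hfin G hQ _ H K V A hcfg

theorem thompson_npcA {p : ℕ} [Fact p.Prime] {Q : ∀ (Γ : Type u) [Group Γ], Prop}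
    (hQc : QClosed Q)
    (hfin : ∀ (G : Type u) [Group G] [Finite G], Q G →
      ∀ P H K V A : Subgroup G, MinCfg p P H K V A → False)
    (hF : FrobHyp.{u} p)
    {G : Type u} [Group G] [Finite G] (hQ : Q G) (P : Sylow p G)
    (hC : PNil p (Subgroup.centralizer ((ZZ (P : Subgroup G) : Subgroup G) : Set G)))
    (hN : PNil p (Subgroup.normalizer ((JA (P : Subgroup G) : Subgroup G) : Set G))) :
    PNil p (⊤ : Subgroup G) :=
  thompson_npcA_aux hQc hfin hF _ G rfl hQ P hC hN

/-- **Thompson's normal `p`-complement theorem, abelian `J`, odd `p`** (relative to the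
Frobenius criterion). -/
theorem thompson_npcA_odd {p : ℕ} [Fact p.Prime] (hp2 : p ≠ 2) (hF : FrobHyp.{u} p)
    {G : Type u} [Group G] [Finite G] (P : Sylow p G)
    (hC : PNil p (Subgroup.centralizer ((ZZ (P : Subgroup G) : Subgroup G) : Set G)))
    (hN : PNil p (Subgroup.normalizer ((JA (P : Subgroup G) : Subgroup G) : Set G))) :
    PNil p (⊤ : Subgroup G) :=
  thompson_npcA (Q := fun _ _ => True) ⟨fun _ _ _ _ => trivial, fun _ _ _ _ _ => trivial⟩
    (fun _ _ _ _ _ _ _ _ _ h => minCfg_false_of_odd hp2 h) hF trivial P hC hN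

end Cfsg.Agent.Helper19
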