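import Mathlib
import Cfsg.Prelude.Def_LocalEven
import Cfsg.Agent.Helper46.Involves
import Cfsg.Agent.Helper46.SFourE
import Cfsg.Agent.Helper19.ThompsonNPCA
import Cfsg.Agent.Helper19.FFCore

/-!
Helper19: in the minimal configuration `MinCfg 2 P H K V A` of Thompson's normal `2`-complement
theorem (abelian `J`), the symmetric group `S₄` is involved in `G`.
Consequently Thompson's theorem holds for `p = 2` in `S₄`-free groups (`thompson_npcA_two`).
-/

set_option autoImplicit false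

namespace Cfsg.Agent.Helper19

universe u

open Helper33

theorem minCfg_two_involves {G : Type u} [Group G] [Finite G] {P H K V A : Subgroup G}
    (h : MinCfg 2 P H K V A) : Cfsg.Involves (Equiv.Perm (Fin 4)) G := by
  classical
  have hVn : V.Normal := h.hVn
  have hHn : H.Normal := h.hHn
  have hKn : K.Normal := h.hKn
  have hVab := h.hVab
  let _ : CommGroup V :=
    { (inferInstance : Group V) with mul_comm := fun x y => Subtype.ext (hVab x x.2 y y.2) }
  have hexp : ∀ v : V, v * v = 1 := by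
    intro v
    apply Subtype.ext
    have := h.hVexp v v.2
    rw [pow_two] at this
    exact this
  have hcn1 : ∀ g ∈ H, (MulAut.conjNormal g : MulAut V) = 1 :=
    fun g hg => (conjNormal_eq_one_iff V g).mpr (h.hHV hg)
  have hcnH : ∀ g : G, (MulAut.conjNormal g : MulAut V) = 1 → g ∈ H :=
    fun g hg => h.hCV ((conjNormal_eq_one_iff V g).mp hg)
  -- elements of `A` act as involutions on `V`
  have hAsq : ∀ a ∈ A, ∀ v : V, (MulAut.conjNormal a : MulAut V)
      ((MulAut.conjNormal a : MulAut V) v) = v := by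
    intro a ha v
    have hc : (((MulAut.conjNormal a : MulAut V) v * v⁻¹ : V) : G) ∈ A := by
      have h1 : (v : G) * a⁻¹ * (v : G)⁻¹ ∈ A :=
        (Subgroup.mem_normalizer_iff.mp (h.hVA v.2) a⁻¹).mp (A.inv_mem ha)
      have h2 := A.mul_mem ha h1
      have h3 : (((MulAut.conjNormal a : MulAut V) v * v⁻¹ : V) : G) =
          a * ((v : G) * a⁻¹ * (v : G)⁻¹) := by
        simp only [Subgroup.coe_mul, InvMemClass.coe_inv, MulAut.conjNormal_apply]; group
      rw [h3]; exact h2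
    have h4 : (MulAut.conjNormal a : MulAut V) ((MulAut.conjNormal a : MulAut V) v * v⁻¹) =
        (MulAut.conjNormal a : MulAut V) v * v⁻¹ := by
      apply Subtype.ext
      rw [MulAut.conjNormal_apply]
      have := h.hA.2.1 a ha _ hc
      rw [this]; group
    rw [map_mul, map_inv] at h4
    have h5 : (MulAut.conjNormal a : MulAut V) ((MulAut.conjNormal a : MulAut V) v) =
        (MulAut.conjNormal a : MulAut V) v * v⁻¹ * (MulAut.conjNormal a : MulAut V) v := by
      rw [← h4]; group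
    rw [h5, mul_comm ((MulAut.conjNormal a : MulAut V) v) v⁻¹, mul_assoc, hexp, mul_one]
    exact inv_eq_of_mul_eq_one_left (hexp v)
  have hsqH : ∀ a ∈ A, a * a ∈ H := by
    intro a ha
    apply hcnH
    rw [map_mul]
    ext v
    rw [MulAut.mul_apply, hAsq a ha v]
    rfl
  -- the offender inequality
  have hoff : Nat.card V * Nat.card (A ⊓ H : Subgroup G) ≤
      Nat.card A * Nat.card (V ⊓ Subgroup.centralizer (A : Set G) : Subgroup G) := by
    have hX : Ab ((A ⊓ H) ⊔ V) := by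
      apply Ab.sup (h.hA.2.1.mono inf_le_left) hVab
      intro a ha v hv
      exact (Subgroup.mem_centralizer_iff.mp (h.hHV ha.2) v hv).symm
    have hXP : (A ⊓ H) ⊔ V ≤ P := sup_le (inf_le_left.trans h.hA.1) (h.hVH.trans h.hHP)
    have h1 := h.hA.2.2 _ hXP hX
    have h2 := card_sup_mul_card_inf' (A ⊓ H) V
      (by rw [Subgroup.normalizer_eq_top_iff.mpr hVn]; exact le_top)
    have h3 : Nat.card ((A ⊓ H) ⊓ V : Subgroup G) ≤
        Nat.card (V ⊓ Subgroup.centralizer (A : Set G) : Subgroup G) := by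
      apply Subgroup.card_le_of_le
      rintro g ⟨⟨hgA, -⟩, hgV⟩
      refine ⟨hgV, ?_⟩
      show g ∈ Subgroup.centralizer (A : Set G)
      rw [Subgroup.mem_centralizer_iff]
      intro a ha
      exact h.hA.2.1 a ha g hgA
    calc Nat.card V * Nat.card (A ⊓ H : Subgroup G)
        = Nat.card ((A ⊓ H) ⊔ V : Subgroup G) * Nat.card ((A ⊓ H) ⊓ V : Subgroup G) := by
          rw [h2]; ring
      _ ≤ _ := Nat.mul_le_mul h1 h3
  -- a best offender
  have hneF : Nonempty {B : Subgroup G // B ≤ A ∧ ¬ B ≤ H} := ⟨⟨A, le_rfl, h.hAH⟩⟩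
  obtain ⟨⟨B₁, hB₁A, hB₁H⟩, hB₁max⟩ := Finite.exists_max
    (fun B : {B : Subgroup G // B ≤ A ∧ ¬ B ≤ H} => Nat.card (B : Subgroup G) *
      Nat.card (V ⊓ Subgroup.centralizer ((B : Subgroup G) : Set G) : Subgroup G))
  have hbest : ∀ B : Subgroup G, B ≤ B₁ →
      Nat.card B * Nat.card (V ⊓ Subgroup.centralizer (B : Set G) : Subgroup G) ≤
      Nat.card B₁ * Nat.card (V ⊓ Subgroup.centralizer (B₁ : Set G) : Subgroup G) := by
    intro B hB
    by_cases hBH : B ≤ H
    · have h1 : Nat.card B * Nat.card (V ⊓ Subgroup.centralizer (B : Set G) : Subgroup G) ≤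
          Nat.card (A ⊓ H : Subgroup G) * Nat.card V :=
        Nat.mul_le_mul (Subgroup.card_le_of_le (le_inf (hB.trans hB₁A) hBH))
          (Subgroup.card_le_of_le inf_le_left)
      have h2 := hB₁max ⟨A, le_rfl, h.hAH⟩
      calc Nat.card B * Nat.card (V ⊓ Subgroup.centralizer (B : Set G) : Subgroup G)
          ≤ Nat.card (A ⊓ H : Subgroup G) * Nat.card V := h1
        _ = Nat.card V * Nat.card (A ⊓ H : Subgroup G) := mul_comm _ _
        _ ≤ _ := hoff
        _ ≤ _ := h2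
    · exact hB₁max ⟨B, hB.trans hB₁A, hBH⟩
  -- pass to `G ⧸ H`
  have hπ1 : ∀ g : G, QuotientGroup.mk' H g = 1 ↔ g ∈ H := by
    intro g
    rw [← MonoidHom.mem_ker, QuotientGroup.ker_mk']
  have hNab : ∀ x ∈ K.map (QuotientGroup.mk' H), ∀ y ∈ K.map (QuotientGroup.mk' H),
      x * y = y * x := by
    rintro _ ⟨k, hk, rfl⟩ _ ⟨k', hk', rfl⟩
    have h1 := (hπ1 _).mpr (h.hKab k hk k' hk')
    rw [map_mul, map_inv, mul_inv_eq_one] at h1
    rw [← map_mul, ← map_mul]; exact h1
  have hodd : Odd (Nat.card (K.map (QuotientGroup.mk' H))) := by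
    rw [← Nat.not_even_iff_odd]
    intro heven
    have : Fact (Nat.Prime 2) := ⟨Nat.prime_two⟩
    obtain ⟨n, hn⟩ := exists_prime_orderOf_dvd_card' 2 heven.two_dvd
    obtain ⟨k, hk, hkn⟩ := n.2
    obtain ⟨m, hm, hmH⟩ := h.hKp' k hk
    have h1 : (n : G ⧸ H) ^ m = 1 := by
      rw [← hkn, ← map_pow]; exact (hπ1 _).mpr hmH
    have h2 : orderOf (n : G ⧸ H) = 2 := by rw [Subgroup.orderOf_coe]; exact hn
    have h3 := orderOf_dvd_of_pow_eq_one h1
    rw [h2] at h3
    have h4 := Nat.Coprime.eq_one_of_dvd hm.symm h3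
    omega
  have hE2 : ∀ e ∈ B₁.map (QuotientGroup.mk' H), e * e = 1 := by
    rintro _ ⟨b, hb, rfl⟩
    rw [← map_mul]; exact (hπ1 _).mpr (hsqH b (hB₁A hb))
  have hEab : ∀ e ∈ B₁.map (QuotientGroup.mk' H), ∀ f ∈ B₁.map (QuotientGroup.mk' H),
      e * f = f * e := by
    rintro _ ⟨b, hb, rfl⟩ _ ⟨c, hc, rfl⟩
    rw [← map_mul, ← map_mul, h.hA.2.1 b (hB₁A hb) c (hB₁A hc)]
  have hEN : ∀ e ∈ B₁.map (QuotientGroup.mk' H), ∀ n ∈ K.map (QuotientGroup.mk' H),
      e * n * e⁻¹ ∈ K.map (QuotientGroup.mk' H) := by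
    rintro _ ⟨b, hb, rfl⟩ _ ⟨k, hk, rfl⟩
    exact ⟨b * k * b⁻¹, hKn.conj_mem k hk b, by simp⟩
  have hact : ∃ e ∈ B₁.map (QuotientGroup.mk' H), ∃ n ∈ K.map (QuotientGroup.mk' H),
      e * n * e⁻¹ ≠ n := by
    obtain ⟨b, hb, hbH⟩ := SetLike.not_le_iff_exists.mp hB₁H
    have h1 : ¬ ∀ k ∈ K, b * k * b⁻¹ * k⁻¹ ∈ H :=
      fun hall => hbH (h.hfaith b (h.hA.1 (hB₁A hb)) hall)
    push Not at h1
    obtain ⟨k, hk, hkH⟩ := h1
    refine ⟨_, Subgroup.mem_map_of_mem _ hb, _, Subgroup.mem_map_of_mem _ hk, ?_⟩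
    intro heq
    apply hkH
    rw [← hπ1, map_mul, map_mul, map_mul, map_inv, map_inv, heq, mul_inv_cancel]
  obtain ⟨E₀, -, ab, hab, xb, hxb, hxb1, hxbfix, hxbinv, hdich⟩ :=
    exists_inverted_hyperplane (K.map (QuotientGroup.mk' H)) (B₁.map (QuotientGroup.mk' H))
      hNab hodd hE2 hEab hEN hact
  obtain ⟨a, haB, rfl⟩ := hab
  obtain ⟨x, hxK, rfl⟩ := hxb
  have hxH : x ∉ H := fun hx => hxb1 ((hπ1 x).mpr hx)
  have haA : a ∈ A := hB₁A haB
  have hax : a * x * a⁻¹ * x ∈ H := by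
    rw [← hπ1, map_mul, map_mul, map_mul, map_inv, hxbinv, inv_mul_cancel]
  obtain ⟨B₀, hB₀B₁, hB₀x, hcard⟩ : ∃ B₀ : Subgroup G, B₀ ≤ B₁ ∧
      (∀ b ∈ B₀, b * x * b⁻¹ * x⁻¹ ∈ H) ∧ Nat.card B₁ ≤ 2 * Nat.card B₀ := by
    have hB₀x : ∀ b ∈ B₁ ⊓ E₀.comap (QuotientGroup.mk' H), b * x * b⁻¹ * x⁻¹ ∈ H := by
      intro b hb
      rw [← hπ1, map_mul, map_mul, map_mul, map_inv, map_inv, hxbfix _ hb.2, mul_inv_cancel]
    have hcard : Nat.card B₁ ≤ 2 * Nat.card (B₁ ⊓ E₀.comap (QuotientGroup.mk' H) : Subgroup G) := by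
      have hsub : (B₁ : Set G) ⊆ ((B₁ ⊓ E₀.comap (QuotientGroup.mk' H) : Subgroup G) : Set G) ∪
          (fun g => a⁻¹ * g) '' ((B₁ ⊓ E₀.comap (QuotientGroup.mk' H) : Subgroup G) : Set G) := by
        intro c hc
        rcases hdich _ (Subgroup.mem_map_of_mem _ hc) with h1 | h1
        · left; exact ⟨hc, h1⟩
        · right
          refine ⟨a * c, ⟨B₁.mul_mem haB hc, ?_⟩, by group⟩
          show QuotientGroup.mk' H (a * c) ∈ E₀
          rw [map_mul]; exact h1
      have h1 := Set.ncard_le_ncard hsub (Set.toFinite _)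
      have h2 := Set.ncard_union_le ((B₁ ⊓ E₀.comap (QuotientGroup.mk' H) : Subgroup G) : Set G)
        ((fun g => a⁻¹ * g) '' ((B₁ ⊓ E₀.comap (QuotientGroup.mk' H) : Subgroup G) : Set G))
      have h3 : ((fun g => a⁻¹ * g) ''
          ((B₁ ⊓ E₀.comap (QuotientGroup.mk' H) : Subgroup G) : Set G)).ncard ≤
          ((B₁ ⊓ E₀.comap (QuotientGroup.mk' H) : Subgroup G) : Set G).ncard :=
        Set.ncard_image_le (Set.toFinite _)
      have h4 : (B₁ : Set G).ncard = Nat.card B₁ := (Nat.card_coe_set_eq _).symm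
      have h5 : ((B₁ ⊓ E₀.comap (QuotientGroup.mk' H) : Subgroup G) : Set G).ncard =
          Nat.card (B₁ ⊓ E₀.comap (QuotientGroup.mk' H) : Subgroup G) := (Nat.card_coe_set_eq _).symm
      omega
    exact ⟨_, inf_le_left, hB₀x, hcard⟩
  have hB₀A : B₀ ≤ A := hB₀B₁.trans hB₁A
  -- the linear situation on `V`
  obtain ⟨m, hm, hmH⟩ := h.hKp' x hxK
  have hmodd : Odd m := Nat.Coprime.odd_of_right hm
  have hξm : (MulAut.conjNormal x : MulAut V) ^ m = 1 := by
    rw [← map_pow]; exact hcn1 _ hmH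
  have hαξ : ∀ v : V, (MulAut.conjNormal a : MulAut V) ((MulAut.conjNormal x : MulAut V) v) =
      (MulAut.conjNormal x : MulAut V)⁻¹ ((MulAut.conjNormal a : MulAut V) v) := by
    intro v
    have h1 : (MulAut.conjNormal (a * x * a⁻¹ * x) : MulAut V) = 1 := hcn1 _ hax
    have h2 : (MulAut.conjNormal a : MulAut V) * (MulAut.conjNormal x : MulAut V) =
        (MulAut.conjNormal x : MulAut V)⁻¹ * (MulAut.conjNormal a : MulAut V) := by
      rw [map_mul, map_mul, map_mul, map_inv] at h1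
      calc (MulAut.conjNormal a : MulAut V) * (MulAut.conjNormal x : MulAut V)
          = ((MulAut.conjNormal a : MulAut V) * (MulAut.conjNormal x : MulAut V) *
              (MulAut.conjNormal a : MulAut V)⁻¹ * (MulAut.conjNormal x : MulAut V)) *
              (MulAut.conjNormal x : MulAut V)⁻¹ * (MulAut.conjNormal a : MulAut V) := by group
        _ = _ := by rw [h1, one_mul]
    have h3 := congrArg (fun σ : MulAut V => σ v) h2
    simpa only [MulAut.mul_apply] using h3
  have hmemfix : ∀ (B : Subgroup G) (w : V),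
      w ∈ (V ⊓ Subgroup.centralizer (B : Set G)).subgroupOf V ↔
        ∀ b ∈ B, (MulAut.conjNormal b : MulAut V) w = w := by
    intro B w
    constructor
    · intro hw b hb
      have h1 : (w : G) ∈ Subgroup.centralizer (B : Set G) := (Subgroup.mem_subgroupOf.mp hw).2
      have h2 := Subgroup.mem_centralizer_iff.mp h1 b hb
      apply Subtype.ext
      rw [MulAut.conjNormal_apply, h2]; group
    · intro hw
      refine Subgroup.mem_subgroupOf.mpr ⟨w.2, ?_⟩
      show (w : G) ∈ Subgroup.centralizer (B : Set G)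
      rw [Subgroup.mem_centralizer_iff]
      intro b hb
      have h1 := congrArg Subtype.val (hw b hb)
      rw [MulAut.conjNormal_apply] at h1
      exact mul_inv_eq_iff_eq_mul.mp h1
  have hcardfix : ∀ B : Subgroup G, Nat.card ((V ⊓ Subgroup.centralizer (B : Set G)).subgroupOf V) =
      Nat.card (V ⊓ Subgroup.centralizer (B : Set G) : Subgroup G) :=
    fun B => Nat.card_congr (Subgroup.subgroupOfEquivOfLe inf_le_left).toEquiv
  have hcomm_bx : ∀ b ∈ B₀, (MulAut.conjNormal b : MulAut V) * (MulAut.conjNormal x : MulAut V) =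
      (MulAut.conjNormal x : MulAut V) * (MulAut.conjNormal b : MulAut V) := by
    intro b hb
    have h1 : (MulAut.conjNormal (b * x * b⁻¹ * x⁻¹) : MulAut V) = 1 := hcn1 _ (hB₀x b hb)
    rw [map_mul, map_mul, map_mul, map_inv, map_inv] at h1
    calc (MulAut.conjNormal b : MulAut V) * (MulAut.conjNormal x : MulAut V)
        = ((MulAut.conjNormal b : MulAut V) * (MulAut.conjNormal x : MulAut V) *
            (MulAut.conjNormal b : MulAut V)⁻¹ * (MulAut.conjNormal x : MulAut V)⁻¹) *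
            (MulAut.conjNormal x : MulAut V) * (MulAut.conjNormal b : MulAut V) := by group
      _ = _ := by rw [h1, one_mul]
  have hcomm_ba : ∀ b ∈ B₀, (MulAut.conjNormal b : MulAut V) * (MulAut.conjNormal a : MulAut V) =
      (MulAut.conjNormal a : MulAut V) * (MulAut.conjNormal b : MulAut V) := by
    intro b hb
    rw [← map_mul, ← map_mul, h.hA.2.1 b (hB₀A hb) a haA]
  have hWξ : ∀ w ∈ (V ⊓ Subgroup.centralizer (B₀ : Set G)).subgroupOf V,
      (MulAut.conjNormal x : MulAut V) w ∈ (V ⊓ Subgroup.centralizer (B₀ : Set G)).subgroupOf V := by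
    intro w hw
    rw [hmemfix] at hw ⊢
    intro b hb
    have h3 := congrArg (fun σ : MulAut V => σ w) (hcomm_bx b hb)
    simp only [MulAut.mul_apply] at h3
    rw [h3, hw b hb]
  have hWα : ∀ w ∈ (V ⊓ Subgroup.centralizer (B₀ : Set G)).subgroupOf V,
      (MulAut.conjNormal a : MulAut V) w ∈ (V ⊓ Subgroup.centralizer (B₀ : Set G)).subgroupOf V := by
    intro w hw
    rw [hmemfix] at hw ⊢
    intro b hb
    have h3 := congrArg (fun σ : MulAut V => σ w) (hcomm_ba b hb)
    simp only [MulAut.mul_apply] at h3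
    rw [h3, hw b hb]
  have hCW : (V ⊓ Subgroup.centralizer (B₁ : Set G)).subgroupOf V ≤
      (V ⊓ Subgroup.centralizer (B₀ : Set G)).subgroupOf V := by
    intro c hc
    rw [hmemfix] at hc ⊢
    exact fun b hb => hc b (hB₀B₁ hb)
  have hCα : ∀ c ∈ (V ⊓ Subgroup.centralizer (B₁ : Set G)).subgroupOf V,
      (MulAut.conjNormal a : MulAut V) c = c := by
    intro c hc
    rw [hmemfix] at hc
    exact hc a haB
  have hW2 : Nat.card ((V ⊓ Subgroup.centralizer (B₀ : Set G)).subgroupOf V) ≤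
      2 * Nat.card ((V ⊓ Subgroup.centralizer (B₁ : Set G)).subgroupOf V) := by
    rw [hcardfix, hcardfix]
    have h3 := hbest B₀ hB₀B₁
    have hpos : 0 < Nat.card B₀ := Nat.card_pos
    have h4 : Nat.card B₀ * Nat.card (V ⊓ Subgroup.centralizer (B₀ : Set G) : Subgroup G) ≤
        Nat.card B₀ * (2 * Nat.card (V ⊓ Subgroup.centralizer (B₁ : Set G) : Subgroup G)) := by
      calc Nat.card B₀ * Nat.card (V ⊓ Subgroup.centralizer (B₀ : Set G) : Subgroup G)
          ≤ Nat.card B₁ * Nat.card (V ⊓ Subgroup.centralizer (B₁ : Set G) : Subgroup G) := h3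
        _ ≤ (2 * Nat.card B₀) *
            Nat.card (V ⊓ Subgroup.centralizer (B₁ : Set G) : Subgroup G) :=
          Nat.mul_le_mul_right _ hcard
        _ = _ := by ring
    exact Nat.le_of_mul_le_mul_left h4 hpos
  have hne : ∃ w ∈ (V ⊓ Subgroup.centralizer (B₀ : Set G)).subgroupOf V,
      (MulAut.conjNormal x : MulAut V) w ≠ w := by
    by_contra hcon
    push Not at hcon
    have hall := axb_special hexp (MulAut.conjNormal x : MulAut V) m hmodd hξm
      (B₀.map (MulAut.conjNormal : G →* MulAut V))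
      ((h.hP.to_le (hB₀A.trans h.hA.1)).map _)
      (by
        rintro _ ⟨b, hb, rfl⟩ v
        have h3 := congrArg (fun σ : MulAut V => σ v) (hcomm_bx b hb)
        simpa only [MulAut.mul_apply] using h3)
      (by
        intro v hv
        apply hcon
        rw [hmemfix]
        intro b hb
        exact hv _ (Subgroup.mem_map_of_mem _ hb))
    apply hxH
    apply hcnH
    ext v
    rw [hall]
    rfl
  obtain ⟨T', hT'W, hT'ξ, hT'α, ⟨t₀, ht₀, ht₀ne⟩, hT'3⟩ :=
    ff_core hexp (MulAut.conjNormal x : MulAut V) (MulAut.conjNormal a : MulAut V) m hmodd hξm hαξ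
      _ _ hWξ hWα hCW hCα hW2 hne
  -- the section
  refine Helper46.involves_four_of_inverted (T'.map V.subtype) ?_ a x ?_ ?_ ?_ 1 ?_ ?_
  · exact h.hP.to_le ((Subgroup.map_subtype_le _).trans (h.hVH.trans h.hHP))
  · apply mem_normalizer_of_cj_le
    rintro _ ⟨_, ⟨t, ht, rfl⟩, rfl⟩
    exact ⟨(MulAut.conjNormal a : MulAut V) t, hT'α t ht, by
      simp [MulAut.conjNormal_apply, MulAut.conj_apply]⟩
  · apply mem_normalizer_of_cj_le
    rintro _ ⟨_, ⟨t, ht, rfl⟩, rfl⟩
    exact ⟨(MulAut.conjNormal x : MulAut V) t, hT'ξ t ht, by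
      simp [MulAut.conjNormal_apply, MulAut.conj_apply]⟩
  · intro hx
    apply ht₀ne
    apply Subtype.ext
    rw [MulAut.conjNormal_apply]
    have h3 := Subgroup.mem_centralizer_iff.mp hx (t₀ : G) ⟨t₀, ht₀, rfl⟩
    rw [← h3]; group
  · rw [Subgroup.mem_centralizer_iff]
    rintro _ ⟨t, ht, rfl⟩
    have h3 := congrArg Subtype.val (hT'3 t ht)
    simp only [MulAut.conjNormal_apply] at h3
    have h4 : x ^ 3 ^ 1 * (t : G) * (x ^ 3 ^ 1)⁻¹ = (t : G) := by
      have e : x ^ 3 ^ 1 = x * x * x := by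
        rw [pow_one, pow_succ, pow_succ, pow_one]
      have h5 : x ^ 3 ^ 1 * (t : G) * (x ^ 3 ^ 1)⁻¹ =
          x * (x * (x * (t : G) * x⁻¹) * x⁻¹) * x⁻¹ := by rw [e]; group
      rw [h5, h3]
    exact (mul_inv_eq_iff_eq_mul.mp h4).symm
  · have h1 : a * x * a⁻¹ * x ∈ Subgroup.centralizer (V : Set G) := h.hHV hax
    refine Subgroup.centralizer_le ?_ h1
    rintro _ ⟨t, -, rfl⟩
    exact t.2

/-- the class of `S₄`-free groups is closed under subgroups and quotients -/
theorem qClosed_sfour_free :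
    QClosed.{u} (fun (Γ : Type u) [Group Γ] => ¬ Cfsg.Involves (Equiv.Perm (Fin 4)) Γ) :=
  ⟨fun _ _ M hΓ hM => hΓ (Helper46.involves_of_subgroup M hM),
    fun _ _ N _ hΓ hq => hΓ (Helper46.involves_of_quotient N hq)⟩

/-- **Thompson's normal `2`-complement theorem for `S₄`-free groups** (abelian `J`; relative
to the Frobenius criterion). -/
theorem thompson_npcA_two (hF : FrobHyp.{u} 2) {G : Type u} [Group G] [Finite G]
    (hG : ¬ Cfsg.Involves (Equiv.Perm (Fin 4)) G) (P : Sylow 2 G)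
    (hC : PNil 2 (Subgroup.centralizer ((ZZ (P : Subgroup G) : Subgroup G) : Set G)))
    (hN : PNil 2 (Subgroup.normalizer ((JA (P : Subgroup G) : Subgroup G) : Set G))) :
    PNil 2 (⊤ : Subgroup G) :=
  haveI : Fact (Nat.Prime 2) := ⟨Nat.prime_two⟩
  thompson_npcA qClosed_sfour_free
    (fun _ _ _ hQ _ _ _ _ _ hcfg => hQ (minCfg_two_involves hcfg)) hF hG P hC hN

end Cfsg.Agent.Helper19
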