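import Mathlib

/-!
# Sub-CALL OB piece CSPLIT (helper19, double, for helper65)
-/

set_option autoImplicit false

namespace Cfsg.Agent.Helper19.OB

open Module

section geo

variable {ι : Type} [Fintype ι] [DecidableEq ι] {F : Type*} [Field F] [Fintype F]

/-- CSPLIT [S-M; Mathlib (+ Helper90.BG.ker_inf_range)]: an invariant subspace splits along
`ker (T - 1) ⊕ range (T - 1)`.  (`w = (1/r) ∑ T^j w + (w - (1/r) ∑ T^j w)`, both parts in `W`.) -/
theorem ob_csplit {V : Type*} [AddCommGroup V] [Module F V] [FiniteDimensional F V]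
    (T : Module.End F V) (r : ℕ) (hrF : (r : F) ≠ 0) (hTr : T ^ r = 1) (W : Submodule F V)
    (hWT : W.map T ≤ W) :
    finrank F W = finrank F ↥(W ⊓ LinearMap.ker (T - 1)) +
      finrank F ↥(W ⊓ LinearMap.range (T - 1)) := by
  have hT' : ∀ u ∈ W, T u ∈ W := fun u hu => hWT (Submodule.mem_map_of_mem hu)
  have hpowW : ∀ j : ℕ, ∀ u ∈ W, (T ^ j) u ∈ W := by
    intro j
    induction j with
    | zero => intro u hu; simpa using hu
    | succ j ih => intro u hu; rw [pow_succ, Module.End.mul_apply]; exact ih _ (hT' u hu)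
  have hNapp : ∀ v, (∑ j ∈ Finset.range r, T ^ j) v = ∑ j ∈ Finset.range r, (T ^ j) v := by
    intro v; rw [LinearMap.sum_apply]
  have hNW : ∀ u ∈ W, (∑ j ∈ Finset.range r, T ^ j) u ∈ W := by
    intro u hu
    rw [hNapp]
    exact Submodule.sum_mem _ fun j _ => hpowW j u hu
  have h1 : (T - 1) * (∑ j ∈ Finset.range r, T ^ j) = 0 := by rw [mul_geom_sum, hTr, sub_self]
  have h2 : (∑ j ∈ Finset.range r, T ^ j) * (T - 1) = 0 := by rw [geom_sum_mul, hTr, sub_self]
  have hfix : ∀ v, T v = v → (∑ j ∈ Finset.range r, T ^ j) v = (r : F) • v := by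
    intro v hv
    have hp : ∀ j : ℕ, (T ^ j) v = v := by
      intro j
      induction j with
      | zero => simp
      | succ j ih => rw [pow_succ, Module.End.mul_apply, hv, ih]
    rw [hNapp, Finset.sum_congr rfl (fun j _ => hp j), Finset.sum_const, Finset.card_range,
      Nat.cast_smul_eq_nsmul]
  have hkermem : ∀ v, v ∈ LinearMap.ker (T - 1) ↔ T v = v := by
    intro v
    rw [LinearMap.mem_ker, LinearMap.sub_apply, Module.End.one_apply, sub_eq_zero]
  have hinf : (W ⊓ LinearMap.ker (T - 1)) ⊓ (W ⊓ LinearMap.range (T - 1)) = ⊥ := by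
    rw [eq_bot_iff]
    intro v hv
    obtain ⟨hv1, hv2⟩ := Submodule.mem_inf.mp hv
    have hvk := (Submodule.mem_inf.mp hv1).2
    obtain ⟨u, rfl⟩ := (Submodule.mem_inf.mp hv2).2
    have e1 := hfix _ ((hkermem _).mp hvk)
    have e2 : (∑ j ∈ Finset.range r, T ^ j) ((T - 1) u) = 0 := by
      rw [← Module.End.mul_apply, h2, LinearMap.zero_apply]
    rw [e2] at e1
    have e3 := (smul_eq_zero.mp e1.symm).resolve_left hrF
    rw [Submodule.mem_bot]; exact e3
  have hsup : (W ⊓ LinearMap.ker (T - 1)) ⊔ (W ⊓ LinearMap.range (T - 1)) = W := by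
    apply le_antisymm (sup_le inf_le_left inf_le_left)
    intro w hw
    have hrange : (∑ j ∈ Finset.range r, T ^ j) w - (r : F) • w ∈ LinearMap.range (T - 1) := by
      have e0 : (∑ j ∈ Finset.range r, T ^ j) w - (r : F) • w =
          ∑ j ∈ Finset.range r, ((T ^ j) w - w) := by
        rw [Finset.sum_sub_distrib, ← hNapp, Finset.sum_const, Finset.card_range,
          Nat.cast_smul_eq_nsmul]
      rw [e0]
      refine Submodule.sum_mem _ fun j _ => ?_
      refine ⟨(∑ i ∈ Finset.range j, T ^ i) w, ?_⟩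
      rw [← Module.End.mul_apply, mul_geom_sum, LinearMap.sub_apply, Module.End.one_apply]
    have e : w = (r : F)⁻¹ • (∑ j ∈ Finset.range r, T ^ j) w +
        (-(r : F)⁻¹) • ((∑ j ∈ Finset.range r, T ^ j) w - (r : F) • w) := by
      rw [smul_sub, smul_smul, neg_mul, inv_mul_cancel₀ hrF, neg_smul, neg_smul, one_smul]
      abel
    rw [e]
    apply Submodule.add_mem_sup
    · refine Submodule.mem_inf.mpr ⟨W.smul_mem _ (hNW w hw), ?_⟩
      rw [hkermem, map_smul]
      congr 1
      have e4 := congrArg (fun g : Module.End F V => g w) h1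
      simp only [Module.End.mul_apply, LinearMap.sub_apply, Module.End.one_apply,
        LinearMap.zero_apply] at e4
      exact sub_eq_zero.mp e4
    · refine Submodule.mem_inf.mpr
        ⟨W.smul_mem _ (W.sub_mem (hNW w hw) (W.smul_mem _ hw)), ?_⟩
      exact Submodule.smul_mem _ _ hrange
  have hfr := Submodule.finrank_sup_add_finrank_inf_eq (W ⊓ LinearMap.ker (T - 1))
    (W ⊓ LinearMap.range (T - 1))
  rw [hsup, hinf, finrank_bot, add_zero] at hfr
  exact hfr

end geo

end Cfsg.Agent.Helper19.OB
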