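import Mathlib
import Cfsg.Agent.Helper9.BRDefs
import Cfsg.Agent.Helper81.SectionChar
import Cfsg.Agent.Helper31.PRQRAT
import Cfsg.Agent.Helper31.PRQCYC4
import Cfsg.Agent.Helper31.PRQCYC8
import Cfsg.Agent.Helper31.PRQFAITH

/-!
# CALL S0998 (helper9), piece TWO

Exceptional characters of degree 3 of the principal `p`-block have absolute value 1 on the
nontrivial 2-elements.
-/

set_option autoImplicit false
set_option linter.style.haveILetI false
set_option maxHeartbeats 1000000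
open Cfsg
open scoped ComplexConjugate

universe u

namespace Cfsg.Agent.Helper19

theorem prq_two_elt {G : Type u} [Group G] [Fintype G] [IsSimpleGroup G] (hG : ¬ IsCyclic G)
    {p : ℕ} [Fact p.Prime] {M : Ideal Cfsg.AlgInt} (hM : Cfsg.IsPModular p M) (P : Sylow p G)
    (hP : Nat.card (P : Subgroup G) = p)
    (hC : Nat.card (Subgroup.centralizer ((P : Subgroup G) : Set G)) = p)
    (e : ℕ) (T : Cfsg.Agent.Helper9.BRTab p M P e) (hp5 : 5 ≤ p)
    (hY : ∀ θ ∈ T.Y, Cfsg.charDegree (θ : G → ℂ) = 3)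
    (h11 : Nat.Coprime 11 (Nat.card G)) (h13 : Nat.Coprime 13 (Nat.card G))
    (θ : Cfsg.IrrCharacter G) (hθ : θ ∈ T.Y) (g : G) (m : ℕ) (hgm : g ^ 2 ^ m = 1)
    (hg1 : g ≠ 1) :
    (θ : G → ℂ) g * conj ((θ : G → ℂ) g) = 1 := by
  have hpp : p.Prime := Fact.out
  have hdeg : Cfsg.charDegree (θ : G → ℂ) = 3 := hY θ hθ
  have c3 : conj (3 : ℂ) = 3 := by
    rw [show (3 : ℂ) = ((3 : ℝ) : ℂ) by norm_num, Complex.conj_ofReal]
  -- 2-elements are p-regular
  have hreg : ∀ (h : G) (k : ℕ), h ^ 2 ^ k = 1 → ¬ p ∣ orderOf h := by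
    intro h k hk hdvd
    have h1 : orderOf h ∣ 2 ^ k := orderOf_dvd_of_pow_eq_one hk
    have h2 : p ∣ 2 := hpp.dvd_of_dvd_pow (hdvd.trans h1)
    have h3 := Nat.le_of_dvd (by norm_num) h2
    omega
  have hrat : ∀ (h : G) (k : ℕ), h ^ 2 ^ k = 1 → ∀ j : ℕ, Nat.Coprime j (Nat.card G) →
      (θ : G → ℂ) (h ^ j) = (θ : G → ℂ) h := fun h k hk j hj =>
    Cfsg.Agent.Helper31.prq_rational hM P hP hC e T 3 (by norm_num) (by omega) hY θ hθ h
      (hreg h k hk) j hj
  -- θ is not the trivial character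
  have hθne : θ ≠ Helper81.trivIrr G := by
    intro h
    rw [h] at hdeg
    have : Cfsg.charDegree (Helper81.trivIrr G : G → ℂ) = 1 := by
      unfold Cfsg.charDegree
      rw [Helper81.trivIrr_apply]
      simp
    omega
  -- elements of order dividing 8 have order dividing 4
  have hA : ∀ h : G, h ^ 8 = 1 → h ^ 4 = 1 := by
    intro h h8
    have h8' : h ^ 2 ^ 3 = 1 := by norm_num; exact h8
    have h5 : (θ : G → ℂ) (h ^ 5) = (θ : G → ℂ) h := by
      have e1 : h ^ 13 = h ^ 5 := by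
        have : h ^ 13 = h ^ 8 * h ^ 5 := by rw [← pow_add]
        rw [this, h8, one_mul]
      rw [← e1]
      exact hrat h 3 h8' 13 h13
    have h6 : (θ : G → ℂ) (h ^ 6) = (θ : G → ℂ) (h ^ 2) := by
      have e1 : (h ^ 2) ^ 11 = h ^ 6 := by
        have : (h ^ 2) ^ 11 = (h ^ 8) ^ 2 * h ^ 6 := by rw [← pow_mul, ← pow_mul, ← pow_add]
        rw [this, h8, one_pow, one_mul]
      rw [← e1]
      refine hrat (h ^ 2) 3 ?_ 11 h11
      rw [← pow_mul]
      have : h ^ (2 * 2 ^ 3) = (h ^ 8) ^ 2 := by rw [← pow_mul]; norm_num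
      rw [this, h8, one_pow]
    have h4 := Cfsg.Agent.Helper31.prq_cyc8 θ hdeg h h8 h5 h6
    apply Cfsg.Agent.Helper31.prq_faithful hG θ hθne (h ^ 4)
    rw [h4, hdeg, c3]
    norm_num
  -- every 2-element has order dividing 4
  have hB : ∀ (k : ℕ) (h : G), h ^ 2 ^ k = 1 → h ^ 4 = 1 := by
    intro k
    induction k with
    | zero => intro h hk; simp at hk; rw [hk, one_pow]
    | succ k ih =>
      intro h hk
      rcases Nat.lt_or_ge k 2 with hk2 | hk2
      · interval_cases k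
        · have : h ^ 4 = (h ^ 2 ^ (0 + 1)) ^ 2 := by rw [← pow_mul]; norm_num
          rw [this, hk, one_pow]
        · have : h ^ 4 = h ^ 2 ^ (1 + 1) := by norm_num
          rw [this, hk]
      · apply ih
        obtain ⟨j, rfl⟩ : ∃ j, k = j + 2 := ⟨k - 2, by omega⟩
        have h8 : (h ^ 2 ^ j) ^ 8 = 1 := by
          rw [← pow_mul]
          have : 2 ^ j * 8 = 2 ^ (j + 2 + 1) := by ring
          rw [this, hk]
        have h4 := hA _ h8
        rw [← pow_mul] at h4
        have : 2 ^ j * 4 = 2 ^ (j + 2) := by ring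
        rw [this] at h4
        exact h4
  have hg4 : g ^ 4 = 1 := hB m g hgm
  have hg4' : g ^ 2 ^ 2 = 1 := by norm_num; exact hg4
  have h3 : (θ : G → ℂ) (g ^ 3) = (θ : G → ℂ) g := by
    have e1 : g ^ 11 = g ^ 3 := by
      have : g ^ 11 = (g ^ 4) ^ 2 * g ^ 3 := by rw [← pow_mul, ← pow_add]
      rw [this, hg4, one_pow, one_mul]
    rw [← e1]
    exact hrat g 2 hg4' 11 h11
  have hfaith : (θ : G → ℂ) g * conj ((θ : G → ℂ) g) ≠ 9 := by
    intro h9
    apply hg1
    apply Cfsg.Agent.Helper31.prq_faithful hG θ hθne g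
    rw [h9, hdeg]
    norm_num
  rcases Cfsg.Agent.Helper31.prq_cyc4 θ hdeg g hg4 h3 with h | h | h | h
  · exfalso; apply hfaith; rw [h, c3]; norm_num
  · rw [h, map_one, mul_one]
  · rw [h, map_neg, map_one]; norm_num
  · exfalso; apply hfaith; rw [h, map_neg, c3]; norm_num

end Cfsg.Agent.Helper19
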