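import Mathlib
import Cfsg.Agent.Helper94.S43Defs
import Cfsg.Agent.Helper11.SORT
import Cfsg.Agent.Helper97.S43FR

/-!
# CALL S43 piece B2a (helper19, for helper94): a non-scalar self-adjoint matrix is non-zero on
some singular vector.
-/

set_option autoImplicit false

namespace Cfsg.Agent.Helper19.S43B2a

open Matrix Cfsg.Agent.Helper71.T4 Cfsg.Agent.Helper94.S43
open Cfsg.Agent.Helper71.SO (bl ruw Nuw)
open Cfsg.Agent.Helper11.SORT
open scoped Kronecker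

variable {F : Type*} [Field F]

theorem b2a_exists_t [Fintype F] (hq : 5 ≤ Fintype.card F) : ∃ t : F, t - t ^ 3 ≠ 0 := by
  classical
  obtain ⟨t, ht⟩ : ∃ t : F, t ∉ ({0, 1, -1} : Finset F) := by
    by_contra h
    push Not at h
    have hsub : (Finset.univ : Finset F) ⊆ {0, 1, -1} := fun x _ => h x
    have h1 := Finset.card_le_card hsub
    have h3 : ({0, 1, -1} : Finset F).card ≤ 3 := Finset.card_le_three
    rw [Finset.card_univ] at h1
    omega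
  refine ⟨t, ?_⟩
  simp only [Finset.mem_insert, Finset.mem_singleton, not_or] at ht
  obtain ⟨h0, h1, hm1⟩ := ht
  have e : t - t ^ 3 = -(t * (t - 1) * (t + 1)) := by ring
  rw [e, neg_ne_zero]
  refine mul_ne_zero (mul_ne_zero h0 (sub_ne_zero.mpr h1)) ?_
  intro h
  exact hm1 (eq_neg_of_add_eq_zero_left h)

/-- B2a with the frame piece FR as hypotheses. -/
theorem sing_nonzero_q_core [Fintype F] (hq : 5 ≤ Fintype.card F) (h2 : (2 : F) ≠ 0)
    (S : Matrix (Fin 3) (Fin 3) F) (hS : Sᵀ = S)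
    (hsing : ∃ s : Fin 3 → F, s ≠ 0 ∧ bl S s s = 0)
    (hframe : ∀ s : Fin 3 → F, s ≠ 0 → bl S s s = 0 →
      ∃ s₁ e : Fin 3 → F, bl S s₁ s₁ = 0 ∧ bl S s s₁ = 1 ∧ bl S s e = 0 ∧ bl S s₁ e = 0 ∧
        bl S e e ≠ 0 ∧
        ∀ x : Fin 3 → F, x = bl S x s₁ • s + bl S x s • s₁ + (bl S x e / bl S e e) • e)
    (C : Matrix (Fin 3) (Fin 3) F) (hsa : Cᵀ * S = S * C)
    (hns : ¬ ∃ c : F, C = c • (1 : Matrix (Fin 3) (Fin 3) F)) :
    ∃ z w : Fin 3 → F, z ≠ 0 ∧ bl S z z = 0 ∧ bl S z w = 0 ∧ bl S w w ≠ 0 ∧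
      bl S z (C *ᵥ z) ≠ 0 := by
  classical
  have hadj : ∀ x y : Fin 3 → F, bl S (C *ᵥ x) y = bl S x (C *ᵥ y) := by
    intro x y
    unfold bl
    have e1 : x ⬝ᵥ S *ᵥ (C *ᵥ y) = x ⬝ᵥ (Cᵀ * S) *ᵥ y := by rw [hsa, Matrix.mulVec_mulVec]
    rw [e1, ← Matrix.mulVec_mulVec, Matrix.dotProduct_mulVec x Cᵀ, Matrix.vecMul_transpose]
  by_contra hcon
  push Not at hcon
  have hQ0 : ∀ z : Fin 3 → F, z ≠ 0 → bl S z z = 0 → bl S z (C *ᵥ z) = 0 := by
    intro z hz hzz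
    obtain ⟨z₁, e, -, -, hze, -, hee, -⟩ := hframe z hz hzz
    exact hcon z e hz hzz hze hee
  obtain ⟨s, hs, hss⟩ := hsing
  obtain ⟨s₁, e, h11, hs1, hse, h1e, hee, hexp⟩ := hframe s hs hss
  have h1s : bl S s₁ s = 1 := by rw [bl_comm S hS, hs1]
  have hes : bl S e s = 0 := by rw [bl_comm S hS, hse]
  have he1 : bl S e s₁ = 0 := by rw [bl_comm S hS, h1e]
  have hs₁ : s₁ ≠ 0 := by
    rintro rfl
    rw [bl_zero_right] at hs1
    exact zero_ne_one hs1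
  have hQs : bl S s (C *ᵥ s) = 0 := hQ0 s hs hss
  have hQ1 : bl S s₁ (C *ᵥ s₁) = 0 := hQ0 s₁ hs₁ h11
  -- the nine values of `bl x (C y)`
  have c_e1 : bl S e (C *ᵥ s₁) = bl S s₁ (C *ᵥ e) := by rw [← hadj, bl_comm S hS]
  have c_s1 : bl S s (C *ᵥ s₁) = bl S s₁ (C *ᵥ s) := by rw [← hadj, bl_comm S hS]
  have c_se : bl S s (C *ᵥ e) = bl S e (C *ᵥ s) := by rw [← hadj, bl_comm S hS]
  have key : ∀ t : F, t ^ 2 * (bl S e (C *ᵥ e) - bl S e e * bl S s₁ (C *ᵥ s))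
      + 2 * t * bl S s₁ (C *ᵥ e) - t ^ 3 * (bl S e e * bl S e (C *ᵥ s)) = 0 := by
    intro t
    obtain ⟨a, ha⟩ : ∃ a : F, 2 * a = -(t ^ 2 * bl S e e) :=
      ⟨-(t ^ 2 * bl S e e / 2), by field_simp⟩
    have hst0 : bl S (s₁ + t • e + a • s) (s₁ + t • e + a • s) = 0 := by
      simp only [bl_add_left, bl_add_right, bl_smul_left, bl_smul_right, h11, hs1, hse, h1e, h1s,
        hes, he1, hss]
      linear_combination ha
    have hstne : s₁ + t • e + a • s ≠ 0 := by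
      intro h
      have h' : bl S s (s₁ + t • e + a • s) = 1 := by
        simp only [bl_add_right, bl_smul_right, hs1, hse, hss]
        ring
      rw [h, bl_zero_right] at h'
      exact zero_ne_one h'
    have hQ := hQ0 _ hstne hst0
    simp only [Matrix.mulVec_add, Matrix.mulVec_smul, bl_add_left, bl_add_right, bl_smul_left,
      bl_smul_right, hQs, hQ1, c_e1, c_s1, c_se] at hQ
    linear_combination hQ - (bl S s₁ (C *ᵥ s) + t * bl S e (C *ᵥ s)) * ha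
  have k1 := key 1
  have km1 := key (-1)
  have hA : bl S e (C *ᵥ e) = bl S e e * bl S s₁ (C *ᵥ s) := by
    have : 2 * (bl S e (C *ᵥ e) - bl S e e * bl S s₁ (C *ᵥ s)) = 0 := by
      linear_combination k1 + km1
    have := (mul_eq_zero.mp this).resolve_left h2
    exact sub_eq_zero.mp this
  have hBD : 2 * bl S s₁ (C *ᵥ e) = bl S e e * bl S e (C *ᵥ s) := by
    rw [hA] at k1
    linear_combination k1
  obtain ⟨t, ht⟩ := b2a_exists_t (F := F) hq
  have hB : bl S s₁ (C *ᵥ e) = 0 := by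
    have kt := key t
    rw [hA, ← hBD] at kt
    have : 2 * (t - t ^ 3) * bl S s₁ (C *ᵥ e) = 0 := by linear_combination kt
    exact (mul_eq_zero.mp this).resolve_left (mul_ne_zero h2 ht)
  have hD : bl S e (C *ᵥ s) = 0 := by
    rw [hB, mul_zero] at hBD
    exact (mul_eq_zero.mp hBD.symm).resolve_left hee
  -- `C` acts as the scalar `bl s₁ (C s)` on the frame
  have hCs : C *ᵥ s = bl S s₁ (C *ᵥ s) • s := by
    have h := hexp (C *ᵥ s)
    rw [bl_comm S hS (C *ᵥ s) s₁, bl_comm S hS (C *ᵥ s) s, bl_comm S hS (C *ᵥ s) e, hQs, hD,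
      zero_smul, add_zero, zero_div, zero_smul, add_zero] at h
    exact h
  have hCs1 : C *ᵥ s₁ = bl S s₁ (C *ᵥ s) • s₁ := by
    have h := hexp (C *ᵥ s₁)
    rw [bl_comm S hS (C *ᵥ s₁) s₁, hQ1, hadj s₁ s, hadj s₁ e, hB, zero_smul, zero_add, zero_div,
      zero_smul, add_zero] at h
    exact h
  have hCe : C *ᵥ e = bl S s₁ (C *ᵥ s) • e := by
    have h := hexp (C *ᵥ e)
    rw [bl_comm S hS (C *ᵥ e) s₁, hB, hadj e s, hD, bl_comm S hS (C *ᵥ e) e, hA, zero_smul,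
      zero_smul, zero_add, zero_add, mul_comm, mul_div_assoc, div_self hee, mul_one] at h
    exact h
  obtain ⟨lam, hlam⟩ : ∃ lam : F, bl S s₁ (C *ᵥ s) = lam := ⟨_, rfl⟩
  rw [hlam] at hCs hCs1 hCe
  apply hns
  refine ⟨lam, ?_⟩
  apply mv_ext
  intro x
  rw [Matrix.smul_mulVec, Matrix.one_mulVec]
  have hx := hexp x
  calc C *ᵥ x = C *ᵥ (bl S x s₁ • s + bl S x s • s₁ + (bl S x e / bl S e e) • e) := by
        rw [← hx]
    _ = lam • (bl S x s₁ • s + bl S x s • s₁ + (bl S x e / bl S e e) • e) := by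
        rw [Matrix.mulVec_add, Matrix.mulVec_add, Matrix.mulVec_smul, Matrix.mulVec_smul,
          Matrix.mulVec_smul, hCs, hCs1, hCe]
        simp only [smul_add, smul_smul, mul_comm]
    _ = lam • x := by rw [← hx]

/-- **Piece B2a.** -/
theorem sing_nonzero_q [Fintype F] (hq : 5 ≤ Fintype.card F) (h2 : (2 : F) ≠ 0)
    (S : Matrix (Fin 3) (Fin 3) F) (hS : Sᵀ = S) (hdet : S.det ≠ 0)
    (C : Matrix (Fin 3) (Fin 3) F) (hsa : Cᵀ * S = S * C)
    (hns : ¬ ∃ c : F, C = c • (1 : Matrix (Fin 3) (Fin 3) F)) :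
    ∃ z w : Fin 3 → F, z ≠ 0 ∧ bl S z z = 0 ∧ bl S z w = 0 ∧ bl S w w ≠ 0 ∧
      bl S z (C *ᵥ z) ≠ 0 :=
  sing_nonzero_q_core hq h2 S hS (Cfsg.Agent.Helper97.S43FR.exists_sing3 h2 S hS hdet)
    (fun s hs hss => Cfsg.Agent.Helper97.S43FR.hyp_frame3 h2 S hS hdet s hs hss) C hsa hns

end Cfsg.Agent.Helper19.S43B2a
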