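import Mathlib
import Cfsg.Agent.Helper94.S43Defs

/-!
# CALL S43 piece FIX (helper19, for helper94): a transvection of the first factor fixing a
given vector of `F^4 ⊗ F^3`.
-/

set_option autoImplicit false

namespace Cfsg.Agent.Helper19.S43FIX

open Matrix Cfsg.Agent.Helper71.T4 Cfsg.Agent.Helper94.S43
open scoped Kronecker

variable {F : Type*} [Field F]

theorem fix4_kron_apply (A : Matrix (Fin 4) (Fin 4) F) (v : Fin 4 × Fin 3 → F) (i : Fin 4)
    (l : Fin 3) :
    ((A ⊗ₖ (1 : Matrix (Fin 3) (Fin 3) F)) *ᵥ v) (i, l) = ∑ j, A i j * v (j, l) := by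
  simp only [Matrix.mulVec, dotProduct, Matrix.kroneckerMap_apply, Fintype.sum_prod_type]
  apply Finset.sum_congr rfl
  intro j _
  rw [Finset.sum_eq_single l]
  · rw [Matrix.one_apply_eq, mul_one]
  · intro l' _ hl'
    rw [Matrix.one_apply_ne (Ne.symm hl'), mul_zero, zero_mul]
  · intro h; exact absurd (Finset.mem_univ _) h

theorem fix4_J4_sq : J4 F * J4 F = -1 := by
  ext i j
  fin_cases i <;> fin_cases j <;> simp [J4, Matrix.mul_apply, Fin.sum_univ_four]

theorem fix4 (v : Fin 4 × Fin 3 → F) :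
    ∃ u : Fin 4 → F, u ≠ 0 ∧
      ∀ c : F, ((tv4 u c) ⊗ₖ (1 : Matrix (Fin 3) (Fin 3) F)) *ᵥ v = v := by
  classical
  let L : (Fin 4 → F) →ₗ[F] (Fin 3 → F) :=
    { toFun := fun y l => ∑ j, y j * v (j, l)
      map_add' := by
        intro a b; ext l
        simp only [Pi.add_apply, add_mul, Finset.sum_add_distrib]
      map_smul' := by
        intro a b; ext l
        simp only [Pi.smul_apply, smul_eq_mul, RingHom.id_apply, Finset.mul_sum, mul_assoc] }
  have hker : ∃ y : Fin 4 → F, y ≠ 0 ∧ L y = 0 := by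
    have hni : ¬ Function.Injective L := by
      intro hinj
      have h := LinearMap.finrank_le_finrank_of_injective hinj
      rw [Module.finrank_fin_fun, Module.finrank_fin_fun] at h
      omega
    rw [← LinearMap.ker_eq_bot, Submodule.eq_bot_iff] at hni
    push Not at hni
    obtain ⟨y, hy, hy0⟩ := hni
    exact ⟨y, hy0, hy⟩
  obtain ⟨y, hy0, hLy⟩ := hker
  have hu : J4 F *ᵥ (-(J4 F *ᵥ y)) = y := by
    rw [Matrix.mulVec_neg, Matrix.mulVec_mulVec, fix4_J4_sq, Matrix.neg_mulVec, Matrix.one_mulVec,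
      neg_neg]
  refine ⟨-(J4 F *ᵥ y), ?_, ?_⟩
  · intro h
    apply hy0
    rw [← hu, h, Matrix.mulVec_zero]
  · intro c
    funext ⟨i, l⟩
    rw [fix4_kron_apply]
    unfold tv4
    rw [hu]
    have hL : ∑ j, y j * v (j, l) = 0 := congrFun hLy l
    simp only [Matrix.add_apply, Matrix.smul_apply, Matrix.vecMulVec_apply, smul_eq_mul, add_mul,
      Finset.sum_add_distrib]
    rw [Finset.sum_eq_single i]
    · rw [Matrix.one_apply_eq, one_mul]
      have : ∑ j, c * ((-(J4 F *ᵥ y)) i * y j) * v (j, l)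
          = c * (-(J4 F *ᵥ y)) i * ∑ j, y j * v (j, l) := by
        rw [Finset.mul_sum]
        apply Finset.sum_congr rfl
        intro j _
        ring
      rw [this, hL, mul_zero, add_zero]
    · intro j _ hj
      rw [Matrix.one_apply_ne (Ne.symm hj), zero_mul]
    · intro h; exact absurd (Finset.mem_univ _) h

end Cfsg.Agent.Helper19.S43FIX
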