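import Mathlib
import Cfsg.Prelude.Def_GeometricClasses
import Cfsg.Agent.Helper71.QMTen

/-!
# CALL S5798 piece QD (helper19, for helper71)

`q6_exists_cv`: copy of `Cfsg.Agent.Helper71.QMTen.qm_exists_cv_ten` with `4 < card ι` and the
connecting vector supplied as the hypothesis `hconn'`.
-/

set_option autoImplicit false
set_option linter.unusedSectionVars false
set_option linter.unusedVariables false

namespace Cfsg.Agent.Helper19.S6QD

open Matrix Cfsg.Agent.Helper93 Cfsg.Agent.Helper94 Cfsg.Agent.Helper98 Cfsg.Geo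

variable {ι : Type} [Fintype ι] [DecidableEq ι] {F : Type*} [Field F]
variable {Q Q' : (ι → F) → F}

/-! ### PIECE QD -/

theorem q6_exists_cv (hQ : IsNondegenerateQuadraticForm Q)
    (hQ' : IsNondegenerateQuadraticForm Q') (h2 : (2 : F) ≠ 0) (hn : 4 < Fintype.card ι)
    (hconn' : ∀ c c' : ι → F, Q' c ≠ 0 → Q' c' ≠ 0 →
      ∃ c'', Q' c'' ≠ 0 ∧ polB hQ' c'' c ≠ 0 ∧ polB hQ' c'' c' ≠ 0)
    (hne : ¬ ∃ l : F, ∀ x, Q x = l * Q' x) :
    ∃ c v, Q' c ≠ 0 ∧ Q v ≠ 0 ∧ polB hQ' v c = 0 ∧ polB hQ v c ≠ 0 := by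
  by_contra hcon
  push Not at hcon
  apply hne
  have h1 : ∀ c, Q' c ≠ 0 → ∀ v, polB hQ' v c = 0 → polB hQ v c = 0 := by
    intro c hc v hvc
    by_cases hv : Q v ≠ 0
    · exact hcon c v hc hv hvc
    · rw [not_not] at hv
      obtain ⟨c', hc'⟩ := qm_riesz hQ hQ' c
      obtain ⟨e, he, hez⟩ := qm_exists_aniso hQ ![c'] (by omega)
      have hec : polB hQ' e c = 0 := by
        rw [← hc']
        exact hez 0
      have hec2 := hcon c e hc he hec
      rcases qm_add_or_sub hQ h2 v e hv he with h | h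
      · have h3 := hcon c (v + e) hc h (by rw [map_add, LinearMap.add_apply, hvc, hec, add_zero])
        rw [map_add, LinearMap.add_apply, hec2, add_zero] at h3
        exact h3
      · have h3 := hcon c (v - e) hc h (by rw [map_sub, LinearMap.sub_apply, hvc, hec, sub_zero])
        rw [map_sub, LinearMap.sub_apply, hec2, sub_zero] at h3
        exact h3
  have h3 : ∀ c, Q' c ≠ 0 → ∀ x, polB hQ x c * Q' c = polB hQ' x c * Q c := by
    intro c hc x
    have h4 := h1 c hc (x - (polB hQ' x c * (polB hQ' c c)⁻¹) • c)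
      (by rw [map_sub, LinearMap.sub_apply, map_smul, LinearMap.smul_apply, smul_eq_mul,
        mul_assoc, inv_mul_cancel₀ (qm_two hQ' h2 hc), mul_one, sub_self])
    rw [map_sub, LinearMap.sub_apply, map_smul, LinearMap.smul_apply, smul_eq_mul, polB_self,
      polB_self, sub_eq_zero] at h4
    rw [h4]
    field_simp
  have h4 : ∀ c c', Q' c ≠ 0 → Q' c' ≠ 0 → polB hQ' c c' ≠ 0 → Q c * Q' c' = Q c' * Q' c := by
    intro c c' hc hc' hne'
    have e1 := h3 c hc c'
    have e2 := h3 c' hc' c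
    rw [polB_comm hQ c' c, polB_comm hQ' c' c] at e1
    have h5 : polB hQ' c c' * (Q c * Q' c' - Q c' * Q' c) = 0 := by
      linear_combination Q' c * e2 - Q' c' * e1
    rcases mul_eq_zero.mp h5 with h | h
    · exact absurd h hne'
    · exact sub_eq_zero.mp h
  have h5 : ∀ c c', Q' c ≠ 0 → Q' c' ≠ 0 → Q c * Q' c' = Q c' * Q' c := by
    intro c c' hc hc'
    obtain ⟨c'', hc'', k1, k2⟩ := hconn' c c' hc hc'
    have e1 := h4 c c'' hc hc'' (by rw [polB_comm]; exact k1)
    have e2 := h4 c'' c' hc'' hc' k2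
    have h6 : Q' c'' * (Q c * Q' c' - Q c' * Q' c) = 0 := by
      linear_combination Q' c' * e1 + Q' c * e2
    rcases mul_eq_zero.mp h6 with h | h
    · exact absurd h hc''
    · exact sub_eq_zero.mp h
  obtain ⟨c₀, hc₀, -⟩ := qm_exists_aniso hQ' (Fin.elim0 : Fin 0 → (ι → F)) (by omega)
  refine ⟨Q c₀ * (Q' c₀)⁻¹, ?_⟩
  have h6 : ∀ c, Q' c ≠ 0 → ∀ x, polB hQ x c = Q c₀ * (Q' c₀)⁻¹ * polB hQ' x c := by
    intro c hc x
    have e1 := h3 c hc x
    have e2 := h5 c c₀ hc hc₀
    have h7 : Q' c * (polB hQ x c * Q' c₀ - Q c₀ * polB hQ' x c) = 0 := by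
      linear_combination Q' c₀ * e1 + polB hQ' x c * e2
    have h8 := sub_eq_zero.mp ((mul_eq_zero.mp h7).resolve_left hc)
    field_simp
    exact h8
  have h7 : ∀ c x, polB hQ x c = Q c₀ * (Q' c₀)⁻¹ * polB hQ' x c := by
    intro c x
    by_cases hc : Q' c ≠ 0
    · exact h6 c hc x
    · rw [not_not] at hc
      have e2 := h6 c₀ hc₀ x
      rcases qm_add_or_sub hQ' h2 c c₀ hc hc₀ with h | h
      · have e1 := h6 (c + c₀) h x
        rw [map_add, map_add] at e1
        linear_combination e1 - e2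
      · have e1 := h6 (c - c₀) h x
        rw [map_sub, map_sub] at e1
        linear_combination e1 + e2
  intro x
  have e := h7 x x
  rw [polB_self, polB_self] at e
  have h8 : 2 * (Q x - Q c₀ * (Q' c₀)⁻¹ * Q' x) = 0 := by linear_combination e
  exact sub_eq_zero.mp ((mul_eq_zero.mp h8).resolve_left h2)

end Cfsg.Agent.Helper19.S6QD
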