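import Mathlib
import Cfsg.Prelude.Def_GeometricClasses
import Cfsg.Prelude.Def_Classical
import Cfsg.Agent.Helper35.S88Defs
import Cfsg.Agent.Helper98.ELPDefs
import Cfsg.Agent.Helper98.S90T2Defs

set_option autoImplicit false

/-!
# Sub-CALL S90T2 (helper98), piece EMBOMEGA (double by helper19)

`emb` maps `Ω⁺` into `Ω⁻`.  Self-contained: the isometry step (EMBISO) is re-proved here under a
fresh name (`emb_mem_iso19`).
-/

namespace Cfsg.Agent.Helper19.S90T2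

open Module Matrix Cfsg Cfsg.Geo Cfsg.Agent.Helper35.S88 Cfsg.Agent.Helper98.ELP
  Cfsg.Agent.Helper98.S90T2
open scoped MatrixGroups

section elt

variable {n : Type} [Fintype n] [DecidableEq n] {F : Type*} [Field F]

theorem embM_mulVec_inl19 (g : Matrix (n ⊕ n) (n ⊕ n) F) (v : (n ⊕ n) ⊕ Fin 2 → F) (i : n ⊕ n) :
    (embM g *ᵥ v) (.inl i) = (g *ᵥ (fun j => v (.inl j))) i := by
  have h := Matrix.fromBlocks_mulVec g (0 : Matrix (n ⊕ n) (Fin 2) F)
    (0 : Matrix (Fin 2) (n ⊕ n) F) (1 : Matrix (Fin 2) (Fin 2) F) v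
  have h2 := congrFun h (.inl i)
  simp only [embM]
  rw [h2]
  simp only [Sum.elim_inl, Matrix.zero_mulVec, add_zero]
  rfl

theorem embM_mulVec_inr19 (g : Matrix (n ⊕ n) (n ⊕ n) F) (v : (n ⊕ n) ⊕ Fin 2 → F) (k : Fin 2) :
    (embM g *ᵥ v) (.inr k) = v (.inr k) := by
  have h := Matrix.fromBlocks_mulVec g (0 : Matrix (n ⊕ n) (Fin 2) F)
    (0 : Matrix (Fin 2) (n ⊕ n) F) (1 : Matrix (Fin 2) (Fin 2) F) v
  have h2 := congrFun h (.inr k)
  simp only [embM]
  rw [h2]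
  simp only [Sum.elim_inr, Matrix.zero_mulVec, zero_add, Matrix.one_mulVec]
  rfl

theorem qm_eq19 (a b : F) (v : (n ⊕ n) ⊕ Fin 2 → F) :
    qm n F a b v = qp n F (fun j => v (.inl j))
      + (v (.inr 0) ^ 2 + a * v (.inr 0) * v (.inr 1) + b * v (.inr 1) ^ 2) := rfl

theorem emb_mem_iso19 (a b : F) (g : GL (n ⊕ n) F) (hg : g ∈ Cfsg.isometryGroup F (qp n F)) :
    emb g ∈ Cfsg.isometryGroup F (qm n F a b) := by
  intro u _
  have hg' : ∀ w : n ⊕ n → F, qp n F ((g : Matrix (n ⊕ n) (n ⊕ n) F) *ᵥ w) = qp n F w :=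
    fun w => hg w 0
  show qm n F a b (embM (g : Matrix (n ⊕ n) (n ⊕ n) F) *ᵥ u) = qm n F a b u
  rw [qm_eq19, qm_eq19]
  have h1 : (fun j => (embM (g : Matrix (n ⊕ n) (n ⊕ n) F) *ᵥ u) (.inl j))
      = (g : Matrix (n ⊕ n) (n ⊕ n) F) *ᵥ (fun j => u (.inl j)) := by
    funext j
    exact embM_mulVec_inl19 _ u j
  rw [h1, hg', embM_mulVec_inr19, embM_mulVec_inr19]

/-- `emb` restricted to the isometry groups. -/
def embIso19 (a b : F) :
    ↥(Cfsg.isometryGroup F (qp n F)) →* ↥(Cfsg.isometryGroup F (qm n F a b)) :=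
  (emb.comp (Cfsg.isometryGroup F (qp n F)).subtype).codRestrict
    (Cfsg.isometryGroup F (qm n F a b)) (fun x => emb_mem_iso19 a b x.1 x.2)

/-- EMBOMEGA. -/
theorem emb_mem_omega (a b : F) (g : GL (n ⊕ n) F) (hg : g ∈ Cfsg.Geo.omegaGL (qp n F)) :
    emb g ∈ Cfsg.Geo.omegaGL (qm n F a b) := by
  obtain ⟨c, hc, rfl⟩ := hg
  refine ⟨embIso19 a b c, ?_, rfl⟩
  have hc' : c ∈ commutator ↥(Cfsg.isometryGroup F (qp n F)) := hc
  have hle : (commutator ↥(Cfsg.isometryGroup F (qp n F))).map (embIso19 a b)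
      ≤ commutator ↥(Cfsg.isometryGroup F (qm n F a b)) := by
    rw [commutator_def, commutator_def, Subgroup.map_commutator]
    exact Subgroup.commutator_mono le_top le_top
  exact hle (Subgroup.mem_map_of_mem _ hc')

end elt

end Cfsg.Agent.Helper19.S90T2
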