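import Mathlib
import Cfsg.Agent.Helper9.OrdTools

/-!
# CALL S0434, piece CD (`o7920_cent_D`) for helper52
-/

set_option autoImplicit false

namespace Cfsg.Agent.Helper19

variable {G : Type*} [Group G] [Finite G]

theorem o7920_cd_arith (k n : ℕ) (hk8 : k ∣ 8) (hn : n ∣ k) (h2 : 2 ≤ n) (hmod : n ≡ 1 [MOD 3]) :
    (9 * k = 36 ∨ 9 * k = 72) ∧ n = 4 := by
  have hmod' : n % 3 = 1 := hmod
  have hk : k = 1 ∨ k = 2 ∨ k = 4 ∨ k = 8 := by
    have h1 : k ∈ Nat.divisors 8 := Nat.mem_divisors.2 ⟨hk8, by norm_num⟩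
    have h8 : Nat.divisors 8 = {1, 2, 4, 8} := by decide
    rw [h8] at h1
    simpa using h1
  rcases hk with rfl | rfl | rfl | rfl
  · have := Nat.le_of_dvd (by norm_num) hn
    omega
  · have := Nat.le_of_dvd (by norm_num) hn
    interval_cases n <;> omega
  · have := Nat.le_of_dvd (by norm_num) hn
    interval_cases n <;> omega
  · have := Nat.le_of_dvd (by norm_num) hn
    interval_cases n <;> omega

-- PIECE CD
theorem o7920_cent_D (hG : Nat.card G = 7920)
    (hl11 : ∀ x : G, x ≠ 1 → orderOf x ≠ 11 →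
      ¬ 11 ∣ Nat.card ↥(Subgroup.centralizer ({x} : Set G)))
    (hl5 : ∀ x : G, x * x ≠ 1 → ¬ 5 ∣ orderOf x →
      ¬ 5 ∣ Nat.card ↥(Subgroup.centralizer ({x} : Set G)))
    (R R' : Sylow 3 G) (hne : R ≠ R') (D : Subgroup G)
    (hD : Nat.card ↥D = 3) (hDR : D ≤ (R : Subgroup G)) (hDR' : D ≤ (R' : Subgroup G))
    (hND : Nat.card ↥(Subgroup.normalizer (D : Set G)) =
      2 * Nat.card ↥(Subgroup.centralizer (D : Set G)))
    (hX : Nat.card {S : Sylow 3 G // D ≤ (S : Subgroup G)} =
      Nat.card (Sylow 3 ↥(Subgroup.centralizer (D : Set G)))) :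
    (Nat.card ↥(Subgroup.centralizer (D : Set G)) = 36 ∨
      Nat.card ↥(Subgroup.centralizer (D : Set G)) = 72) ∧
    Nat.card {S : Sylow 3 G // D ≤ (S : Subgroup G)} = 4 := by
  classical
  have hR9 : Nat.card (R : Subgroup G) = 3 ^ 2 :=
    Cfsg.Agent.Helper9.OrdTools.sylow_card 2 880 (by rw [hG]; norm_num) (by norm_num) R
  have hRcomm : ∀ a ∈ (R : Subgroup G), ∀ b ∈ (R : Subgroup G), a * b = b * a := by
    intro a ha b hb
    have := (IsPGroup.isMulCommutative_of_card_eq_prime_sq (p := 3) hR9).is_comm.comm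
      (⟨a, ha⟩ : (R : Subgroup G)) ⟨b, hb⟩
    exact congrArg Subtype.val this
  have hRH : (R : Subgroup G) ≤ Subgroup.centralizer (D : Set G) := by
    intro r hr
    rw [Subgroup.mem_centralizer_iff]
    intro d hd
    exact hRcomm d (hDR hd) r hr
  -- a generator of `D`
  have hDbot : D ≠ ⊥ := by
    intro h
    rw [h, Subgroup.card_bot] at hD
    omega
  obtain ⟨d, hd1⟩ := (Subgroup.ne_bot_iff_exists_ne_one).1 hDbot
  have hd' : (d : G) ≠ 1 := fun h => hd1 (Subtype.ext h)
  have hdD : (d : G) ∈ D := d.2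
  have hord : orderOf (d : G) = 3 := by
    have h1 : orderOf (d : G) ∣ 3 := hD ▸ Subgroup.orderOf_dvd_natCard D hdD
    rcases (Nat.dvd_prime Nat.prime_three).1 h1 with h | h
    · exact absurd (orderOf_eq_one_iff.1 h) hd'
    · exact h
  have hz : Subgroup.zpowers (d : G) = D := by
    refine Subgroup.eq_of_le_of_card_ge ((Subgroup.zpowers_le).2 hdD) ?_
    rw [Nat.card_zpowers, hord, hD]
  have hcent : Subgroup.centralizer ({(d : G)} : Set G) = Subgroup.centralizer (D : Set G) :=
    Cfsg.Agent.Helper9.OrdTools.centralizer_singleton_eq hz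
  have h11 : ¬ 11 ∣ Nat.card ↥(Subgroup.centralizer (D : Set G)) := by
    rw [← hcent]
    exact hl11 d hd' (by rw [hord]; norm_num)
  have h5 : ¬ 5 ∣ Nat.card ↥(Subgroup.centralizer (D : Set G)) := by
    rw [← hcent]
    refine hl5 d ?_ (by rw [hord]; norm_num)
    intro h
    have h2 : orderOf (d : G) ∣ 2 := orderOf_dvd_of_pow_eq_one (by rw [pow_two]; exact h)
    rw [hord] at h2
    omega
  -- numerics on `c = |C(D)|`
  have h9 : 9 ∣ Nat.card ↥(Subgroup.centralizer (D : Set G)) := by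
    have := Subgroup.card_dvd_of_le hRH
    rw [hR9] at this
    simpa using this
  have h2c : 2 * Nat.card ↥(Subgroup.centralizer (D : Set G)) ∣ 7920 := by
    rw [← hND, ← hG]
    exact Subgroup.card_subgroup_dvd_card _
  have hc72 : Nat.card ↥(Subgroup.centralizer (D : Set G)) ∣ 72 := by
    have h3960 : Nat.card ↥(Subgroup.centralizer (D : Set G)) ∣ 72 * 55 := by
      have : 2 * Nat.card ↥(Subgroup.centralizer (D : Set G)) ∣ 2 * (72 * 55) := by
        norm_num; exact h2c
      exact Nat.dvd_of_mul_dvd_mul_left (by norm_num) this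
    have hcop5 : Nat.Coprime (Nat.card ↥(Subgroup.centralizer (D : Set G))) 5 :=
      (Nat.coprime_comm).1 ((Nat.Prime.coprime_iff_not_dvd (by norm_num)).2 h5)
    have hcop11 : Nat.Coprime (Nat.card ↥(Subgroup.centralizer (D : Set G))) 11 :=
      (Nat.coprime_comm).1 ((Nat.Prime.coprime_iff_not_dvd (by norm_num)).2 h11)
    have hcop : Nat.Coprime (Nat.card ↥(Subgroup.centralizer (D : Set G))) 55 := by
      have := Nat.Coprime.mul_right hcop5 hcop11
      norm_num at this
      exact this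
    exact hcop.dvd_of_dvd_mul_right h3960
  -- the Sylow 3-subgroups of `C(D)`
  have hPcoe : ((R.subtype hRH : Sylow 3 ↥(Subgroup.centralizer (D : Set G))) :
      Subgroup ↥(Subgroup.centralizer (D : Set G))) =
      (R : Subgroup G).subgroupOf (Subgroup.centralizer (D : Set G)) := Sylow.coe_subtype R hRH
  have hPcard : Nat.card ((R.subtype hRH : Sylow 3 ↥(Subgroup.centralizer (D : Set G))) :
      Subgroup ↥(Subgroup.centralizer (D : Set G))) = 9 := by
    rw [hPcoe, Nat.card_congr (Subgroup.subgroupOfEquivOfLe hRH).toEquiv, hR9]; norm_num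
  have hidx := Subgroup.card_mul_index ((R.subtype hRH :
      Sylow 3 ↥(Subgroup.centralizer (D : Set G))) :
      Subgroup ↥(Subgroup.centralizer (D : Set G)))
  rw [hPcard] at hidx
  have hndvd : Nat.card (Sylow 3 ↥(Subgroup.centralizer (D : Set G))) ∣
      ((R.subtype hRH : Sylow 3 ↥(Subgroup.centralizer (D : Set G))) :
      Subgroup ↥(Subgroup.centralizer (D : Set G))).index :=
    Sylow.card_dvd_index (R.subtype hRH)
  have hnmod : Nat.card (Sylow 3 ↥(Subgroup.centralizer (D : Set G))) ≡ 1 [MOD 3] :=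
    card_sylow_modEq_one 3 ↥(Subgroup.centralizer (D : Set G))
  have hn2 : 2 ≤ Nat.card {S : Sylow 3 G // D ≤ (S : Subgroup G)} := by
    by_contra hlt
    have hle1 : Nat.card {S : Sylow 3 G // D ≤ (S : Subgroup G)} ≤ 1 := by omega
    have hsub : Subsingleton {S : Sylow 3 G // D ≤ (S : Subgroup G)} :=
      (Finite.card_le_one_iff_subsingleton).1 hle1
    have := hsub.elim ⟨R, hDR⟩ ⟨R', hDR'⟩
    exact hne (congrArg Subtype.val this)
  rw [hX] at hn2 ⊢
  -- conclude
  obtain ⟨k, hk⟩ := h9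
  rw [hk] at hc72 hidx ⊢
  have hk8 : k ∣ 8 := Nat.dvd_of_mul_dvd_mul_left (by norm_num : 0 < 9) (by simpa using hc72)
  have hidx' : ((R.subtype hRH : Sylow 3 ↥(Subgroup.centralizer (D : Set G))) :
      Subgroup ↥(Subgroup.centralizer (D : Set G))).index = k := by
    have : 9 * ((R.subtype hRH : Sylow 3 ↥(Subgroup.centralizer (D : Set G))) :
      Subgroup ↥(Subgroup.centralizer (D : Set G))).index = 9 * k := hidx
    exact Nat.eq_of_mul_eq_mul_left (by norm_num) this
  rw [hidx'] at hndvd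
  exact o7920_cd_arith k _ hk8 hndvd hn2 hnmod

end Cfsg.Agent.Helper19
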