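import Mathlib
import Cfsg.Agent.Helper9.OrdTools

/-!
# CALL S0434, piece NC (`o7920_compl`) for helper52

Normal 3-complement of `C(D)` by Burnside's transfer theorem.
-/

set_option autoImplicit false

namespace Cfsg.Agent.Helper19

variable {G : Type*} [Group G] [Finite G]

-- PIECE NC
theorem o7920_compl (hG : Nat.card G = 7920) (R : Sylow 3 G) (D : Subgroup G)
    (hDR : D ≤ (R : Subgroup G))
    (hc : Nat.card ↥(Subgroup.centralizer (D : Set G)) ∣ 72)
    (hle : Subgroup.centralizer (D : Set G) ⊓ Subgroup.normalizer ((R : Subgroup G) : Set G) ≤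
      Subgroup.centralizer ((R : Subgroup G) : Set G)) :
    ∃ E : Subgroup G, E ≤ Subgroup.centralizer (D : Set G) ∧
      9 * Nat.card ↥E = Nat.card ↥(Subgroup.centralizer (D : Set G)) ∧
      (∀ x ∈ Subgroup.centralizer (D : Set G), x ^ 16 = 1 → x ∈ E) ∧
      (∀ g ∈ Subgroup.normalizer (D : Set G), ∀ x ∈ E, g * x * g⁻¹ ∈ E) := by
  classical
  have hR9 : Nat.card (R : Subgroup G) = 3 ^ 2 :=
    Cfsg.Agent.Helper9.OrdTools.sylow_card 2 880 (by rw [hG]; norm_num) (by norm_num) R
  have hRcomm : ∀ a ∈ (R : Subgroup G), ∀ b ∈ (R : Subgroup G), a * b = b * a := by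
    intro a ha b hb
    have := (IsPGroup.isMulCommutative_of_card_eq_prime_sq (p := 3) hR9).is_comm.comm
      (⟨a, ha⟩ : (R : Subgroup G)) ⟨b, hb⟩
    exact congrArg Subtype.val this
  have hRH : (R : Subgroup G) ≤ Subgroup.centralizer (D : Set G) := by
    intro r hr
    rw [Subgroup.mem_centralizer_iff]
    intro d hd
    exact hRcomm d (hDR hd) r hr
  -- the Sylow 3-subgroup of `C(D)`
  have hPcoe : ((R.subtype hRH : Sylow 3 ↥(Subgroup.centralizer (D : Set G))) :
      Subgroup ↥(Subgroup.centralizer (D : Set G))) =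
      (R : Subgroup G).subgroupOf (Subgroup.centralizer (D : Set G)) := Sylow.coe_subtype R hRH
  have hP : Subgroup.normalizer (((R.subtype hRH : Sylow 3 ↥(Subgroup.centralizer (D : Set G))) :
      Subgroup ↥(Subgroup.centralizer (D : Set G))) : Set ↥(Subgroup.centralizer (D : Set G))) ≤
      Subgroup.centralizer (((R.subtype hRH : Sylow 3 ↥(Subgroup.centralizer (D : Set G))) :
      Subgroup ↥(Subgroup.centralizer (D : Set G))) : Set ↥(Subgroup.centralizer (D : Set G))) := by
    intro n hn
    rw [hPcoe] at hn ⊢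
    have hnR : (n : G) ∈ Subgroup.normalizer ((R : Subgroup G) : Set G) := by
      rw [Subgroup.mem_normalizer_iff]
      intro r
      have h1 := (Subgroup.mem_normalizer_iff.1 hn)
      constructor
      · intro hr
        have h2 := (h1 ⟨r, hRH hr⟩).1 (by rw [Subgroup.mem_subgroupOf]; exact hr)
        rw [Subgroup.mem_subgroupOf] at h2
        simpa using h2
      · intro hr
        have hrH : r ∈ Subgroup.centralizer (D : Set G) := by
          have h3 : (n : G)⁻¹ * ((n : G) * r * (n : G)⁻¹) * (n : G) ∈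
              Subgroup.centralizer (D : Set G) :=
            Subgroup.mul_mem _ (Subgroup.mul_mem _ (Subgroup.inv_mem _ n.2) (hRH hr)) n.2
          have h4 : (n : G)⁻¹ * ((n : G) * r * (n : G)⁻¹) * (n : G) = r := by group
          rwa [h4] at h3
        have h2 := (h1 ⟨r, hrH⟩).2 (by rw [Subgroup.mem_subgroupOf]; simpa using hr)
        rw [Subgroup.mem_subgroupOf] at h2
        exact h2
    have hnC : (n : G) ∈ Subgroup.centralizer ((R : Subgroup G) : Set G) := hle ⟨n.2, hnR⟩
    rw [Subgroup.mem_centralizer_iff]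
    intro r hr
    have hr' : (r : G) ∈ (R : Subgroup G) := by
      have : r ∈ (R : Subgroup G).subgroupOf (Subgroup.centralizer (D : Set G)) := hr
      rwa [Subgroup.mem_subgroupOf] at this
    have := (Subgroup.mem_centralizer_iff.1 hnC) (r : G) hr'
    exact Subtype.ext this
  have hcompl := MonoidHom.ker_transferSylow_isComplement' (R.subtype hRH) hP
  have hcm := hcompl.card_mul_card
  have hPcard : Nat.card ((R.subtype hRH : Sylow 3 ↥(Subgroup.centralizer (D : Set G))) :
      Subgroup ↥(Subgroup.centralizer (D : Set G))) = 9 := by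
    rw [hPcoe, Nat.card_congr (Subgroup.subgroupOfEquivOfLe hRH).toEquiv, hR9]; norm_num
  rw [hPcard] at hcm
  -- the complement
  have hE9 : 9 * Nat.card ↥((MonoidHom.transferSylow (R.subtype hRH) hP).ker.map
      (Subgroup.centralizer (D : Set G)).subtype) =
      Nat.card ↥(Subgroup.centralizer (D : Set G)) := by
    rw [Subgroup.card_map_of_injective (Subgroup.subtype_injective _), ← hcm, mul_comm]
  have hkey : ∀ x ∈ Subgroup.centralizer (D : Set G), x ^ 16 = 1 →
      x ∈ (MonoidHom.transferSylow (R.subtype hRH) hP).ker.map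
        (Subgroup.centralizer (D : Set G)).subtype := by
    intro x hx hx16
    refine ⟨⟨x, hx⟩, ?_, rfl⟩
    rw [SetLike.mem_coe, MonoidHom.mem_ker]
    have h16 : (MonoidHom.transferSylow (R.subtype hRH) hP ⟨x, hx⟩) ^ 16 = 1 := by
      rw [← map_pow]
      have : (⟨x, hx⟩ : ↥(Subgroup.centralizer (D : Set G))) ^ 16 = 1 := by
        apply Subtype.ext
        simpa using hx16
      rw [this, map_one]
    have h9 : (MonoidHom.transferSylow (R.subtype hRH) hP ⟨x, hx⟩) ^ 9 = 1 := by
      have := pow_card_eq_one' (G := ((R.subtype hRH : Sylow 3 ↥(Subgroup.centralizer (D : Set G))) :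
        Subgroup ↥(Subgroup.centralizer (D : Set G))))
        (x := MonoidHom.transferSylow (R.subtype hRH) hP ⟨x, hx⟩)
      rwa [hPcard] at this
    have h64 : (MonoidHom.transferSylow (R.subtype hRH) hP ⟨x, hx⟩) ^ 64 = 1 := by
      have : (64 : ℕ) = 16 * 4 := by norm_num
      rw [this, pow_mul, h16, one_pow]
    have h63 : (MonoidHom.transferSylow (R.subtype hRH) hP ⟨x, hx⟩) ^ 63 = 1 := by
      have : (63 : ℕ) = 9 * 7 := by norm_num
      rw [this, pow_mul, h9, one_pow]
    have : (MonoidHom.transferSylow (R.subtype hRH) hP ⟨x, hx⟩) ^ 64 =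
        (MonoidHom.transferSylow (R.subtype hRH) hP ⟨x, hx⟩) ^ 63 *
        (MonoidHom.transferSylow (R.subtype hRH) hP ⟨x, hx⟩) := by
      rw [← pow_succ]
    rw [h64, h63, one_mul] at this
    exact this.symm
  refine ⟨(MonoidHom.transferSylow (R.subtype hRH) hP).ker.map
    (Subgroup.centralizer (D : Set G)).subtype, Subgroup.map_subtype_le _, hE9, hkey, ?_⟩
  intro g hg x hx
  have hxC : x ∈ Subgroup.centralizer (D : Set G) := Subgroup.map_subtype_le _ hx
  have hE8 : Nat.card ↥((MonoidHom.transferSylow (R.subtype hRH) hP).ker.map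
      (Subgroup.centralizer (D : Set G)).subtype) ∣ 8 := by
    have h72 : 9 * Nat.card ↥((MonoidHom.transferSylow (R.subtype hRH) hP).ker.map
      (Subgroup.centralizer (D : Set G)).subtype) ∣ 9 * 8 := by
      rw [hE9]; exact hc
    exact Nat.dvd_of_mul_dvd_mul_left (by norm_num) h72
  have hx8 : x ^ 8 = 1 := by
    have h1 := pow_card_eq_one' (G := ↥((MonoidHom.transferSylow (R.subtype hRH) hP).ker.map
      (Subgroup.centralizer (D : Set G)).subtype)) (x := ⟨x, hx⟩)
    obtain ⟨k, hk⟩ := hE8
    have h2 : (⟨x, hx⟩ : ↥((MonoidHom.transferSylow (R.subtype hRH) hP).ker.map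
      (Subgroup.centralizer (D : Set G)).subtype)) ^ 8 = 1 := by
      rw [hk, pow_mul, h1, one_pow]
    have h3 := congrArg Subtype.val h2
    rw [Subgroup.coe_pow] at h3
    exact h3
  have hx16 : x ^ 16 = 1 := by
    have : (16 : ℕ) = 8 * 2 := by norm_num
    rw [this, pow_mul, hx8, one_pow]
  apply hkey
  · rw [Subgroup.mem_centralizer_iff]
    intro d hd
    have hgd : g⁻¹ * d * g ∈ D := by
      have := (Subgroup.mem_normalizer_iff''.1 hg d).1 hd
      exact this
    have hcomm := (Subgroup.mem_centralizer_iff.1 hxC) (g⁻¹ * d * g) hgd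
    calc d * (g * x * g⁻¹) = g * ((g⁻¹ * d * g) * x) * g⁻¹ := by group
      _ = g * (x * (g⁻¹ * d * g)) * g⁻¹ := by rw [hcomm]
      _ = g * x * g⁻¹ * d := by group
  · rw [conj_pow, hx16]; group

end Cfsg.Agent.Helper19
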