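import Mathlib
import Cfsg.Agent.Helper13.TLDefs
import Cfsg.Agent.Helper52.TLUMODELODD
import Cfsg.Agent.Helper57.TLUMODELTWO
import Cfsg.Agent.Helper19.TLUMODELSUM

/-!
# CALL S5954 piece UMODELALL (helper19, for helper13)
-/

set_option autoImplicit false

namespace Cfsg.Agent.Helper19.TI5954

open Module Polynomial
open Cfsg.Agent.Helper13.TIu Cfsg.Agent.Helper13.TIsp

section std2

variable {F : Type*} [Field F] {σ : F →+* F}

/-- UMODELALL (case A; uses UMODELODD, UMODELTWO, UMODELSUM; mirror `model_all`): induction on `μ`;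
for `p = 2` the parts are `1` (`T = 1` on `Fin 1 → F`) and `2` (UMODELTWO). -/
theorem umodel_all [Finite F] (hσ2 : ∀ a, σ (σ a) = a) (hσne : σ ≠ RingHom.id F) (p : ℕ)
    [Fact p.Prime] [CharP F p] (μ : Multiset ℕ) (hμ : ∀ a ∈ μ, 0 < a ∧ a ≤ p) (n : ℕ)
    (hsum : μ.sum = n) :
    ∃ T : Module.End F (Fin n → F), UPres (stdH σ n) T ∧ T ^ p = 1 ∧ JT (T - 1) ⊤ μ := by
  refine umodel_all_of p ?_ (fun n₁ n₂ T₁ T₂ h₁ h₂ hp₁ hp₂ l₁ l₂ hl₁ hl₂ =>
    umodel_sum p n₁ n₂ T₁ T₂ h₁ h₂ hp₁ hp₂ l₁ l₂ hl₁ hl₂) μ hμ n hsum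
  intro a ha hap
  by_cases h2 : (2 : F) = 0
  · have hp2 : p = 2 := by
      have h : ((2 : ℕ) : F) = 0 := by exact_mod_cast h2
      have hdvd := (CharP.cast_eq_zero_iff F p 2).mp h
      exact (Nat.prime_dvd_prime_iff_eq Fact.out Nat.prime_two).mp hdvd
    subst hp2
    have ha12 : a = 1 ∨ a = 2 := by omega
    rcases ha12 with rfl | rfl
    · exact umodel_blk_one 2
    · exact Cfsg.Agent.Helper57.TI5954.umodel_two h2
  · exact Cfsg.Agent.Helper52.TI5954.umodel_odd hσ2 hσne p h2 a ha hap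

end std2

end Cfsg.Agent.Helper19.TI5954
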