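import Mathlib
import Cfsg.Agent.Helper95.UBNDefs

/-!
# A `3 × 3` window embedding for the odd unitary rank-one computations (CALL S2546, helper19)

`emb k h A` is the `n × n` matrix that is `A` on the window of rows/columns `k, k+1, k+2` and the
identity elsewhere.  It is multiplicative, and for `n = 2k + 3` it commutes with `UBN.uinv`.
-/

set_option autoImplicit false

namespace Cfsg.Agent.Helper19.UBNE

open Matrix Cfsg.Agent.Helper95.UBN

variable {F : Type*} [Field F] {n : ℕ}

/-- the window index `k + r`. -/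
def wi (k : ℕ) (h : k + 3 ≤ n) (r : Fin 3) : Fin n := ⟨k + r.1, by have := r.2; omega⟩

theorem wi_val (k : ℕ) (h : k + 3 ≤ n) (r : Fin 3) : (wi k h r).1 = k + r.1 := rfl

theorem wi_injective (k : ℕ) (h : k + 3 ≤ n) : Function.Injective (wi k h) := by
  intro r s hrs
  have := congrArg Fin.val hrs
  rw [wi_val, wi_val] at this
  exact Fin.ext (by omega)

/-- membership in the window. -/
def InW (k : ℕ) (p : Fin n) : Prop := k ≤ p.1 ∧ p.1 < k + 3

instance instDecidableInW (k : ℕ) (p : Fin n) : Decidable (InW k p) := by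
  unfold InW; infer_instance

theorem inW_wi (k : ℕ) (h : k + 3 ≤ n) (r : Fin 3) : InW k (wi k h r) := by
  have := r.2
  unfold InW; rw [wi_val]; omega

theorem exists_wi (k : ℕ) (h : k + 3 ≤ n) {p : Fin n} (hp : InW k p) : ∃ r, p = wi k h r := by
  refine ⟨⟨p.1 - k, by unfold InW at hp; omega⟩, ?_⟩
  apply Fin.ext
  rw [wi_val]
  unfold InW at hp
  show p.1 = k + (p.1 - k)
  omega

theorem wi_rev (k : ℕ) (h : k + 3 ≤ n) (hn : n = 2 * k + 3) (r : Fin 3) :
    Fin.rev (wi k h r) = wi k h (Fin.rev r) := by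
  apply Fin.ext
  have := r.2
  rw [Fin.val_rev, wi_val, wi_val, Fin.val_rev]
  omega

theorem inW_rev (k : ℕ) (hn : n = 2 * k + 3) (p : Fin n) : InW k (Fin.rev p) ↔ InW k p := by
  have := p.2
  unfold InW
  rw [Fin.val_rev]
  omega

/-- the embedding of a `3 × 3` matrix on the window `k, k+1, k+2`. -/
def emb (k : ℕ) (A : Matrix (Fin 3) (Fin 3) F) : Matrix (Fin n) (Fin n) F :=
  fun p q => if hpq : InW k p ∧ InW k q then
    A ⟨p.1 - k, by have := hpq.1; unfold InW at this; omega⟩
      ⟨q.1 - k, by have := hpq.2; unfold InW at this; omega⟩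
    else if p = q then 1 else 0

theorem emb_wi (k : ℕ) (h : k + 3 ≤ n) (A : Matrix (Fin 3) (Fin 3) F) (r s : Fin 3) :
    (emb k A : Matrix (Fin n) (Fin n) F) (wi k h r) (wi k h s) = A r s := by
  unfold emb
  rw [dif_pos ⟨inW_wi k h r, inW_wi k h s⟩]
  congr 1 <;> (apply Fin.ext; simp [wi_val])

theorem emb_out (k : ℕ) (A : Matrix (Fin 3) (Fin 3) F) (p q : Fin n)
    (hpq : ¬ (InW k p ∧ InW k q)) :
    (emb k A : Matrix (Fin n) (Fin n) F) p q = if p = q then 1 else 0 := by
  unfold emb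
  rw [dif_neg hpq]

theorem emb_one (k : ℕ) (h : k + 3 ≤ n) :
    (emb k (1 : Matrix (Fin 3) (Fin 3) F) : Matrix (Fin n) (Fin n) F) = 1 := by
  ext p q
  by_cases hpq : InW k p ∧ InW k q
  · obtain ⟨r, rfl⟩ := exists_wi k h hpq.1
    obtain ⟨s, rfl⟩ := exists_wi k h hpq.2
    rw [emb_wi, Matrix.one_apply, Matrix.one_apply]
    by_cases hrs : r = s
    · rw [if_pos hrs, if_pos (by rw [hrs])]
    · rw [if_neg hrs, if_neg (fun h' => hrs (wi_injective k h h'))]
  · rw [emb_out k _ p q hpq, Matrix.one_apply]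

theorem sum_window (k : ℕ) (h : k + 3 ≤ n) (f : Fin n → F) (hf : ∀ l, ¬ InW k l → f l = 0) :
    ∑ l, f l = ∑ s : Fin 3, f (wi k h s) := by
  classical
  rw [← Finset.sum_image (s := Finset.univ) (g := wi k h) (f := f)
    (fun a _ b _ hab => wi_injective k h hab)]
  symm
  apply Finset.sum_subset (Finset.subset_univ _)
  intro l _ hl
  apply hf
  intro hw
  obtain ⟨r, rfl⟩ := exists_wi k h hw
  exact hl (Finset.mem_image_of_mem _ (Finset.mem_univ r))

theorem emb_mul (k : ℕ) (h : k + 3 ≤ n) (A B : Matrix (Fin 3) (Fin 3) F) :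
    (emb k A : Matrix (Fin n) (Fin n) F) * emb k B = emb k (A * B) := by
  classical
  ext p q
  rw [Matrix.mul_apply]
  by_cases hp : InW k p
  · obtain ⟨r, rfl⟩ := exists_wi k h hp
    rw [sum_window k h]
    · by_cases hq : InW k q
      · obtain ⟨s, rfl⟩ := exists_wi k h hq
        rw [emb_wi, Matrix.mul_apply]
        apply Finset.sum_congr rfl
        intro l _
        rw [emb_wi, emb_wi]
      · rw [emb_out k _ _ q (fun h' => hq h'.2)]
        have hne : wi k h r ≠ q := by
          rintro rfl; exact hq hp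
        rw [if_neg hne]
        apply Finset.sum_eq_zero
        intro l _
        rw [emb_out k B _ q (fun h' => hq h'.2)]
        have hne' : wi k h l ≠ q := by
          rintro rfl; exact hq (inW_wi k h l)
        rw [if_neg hne', mul_zero]
    · intro l hl
      rw [emb_out k A _ l (fun h' => hl h'.2)]
      have hne : wi k h r ≠ l := by
        rintro rfl; exact hl hp
      rw [if_neg hne, zero_mul]
  · rw [emb_out k (A * B) p q (fun h' => hp h'.1)]
    rw [Finset.sum_eq_single p]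
    · rw [emb_out k A p p (fun h' => hp h'.1), if_pos rfl, one_mul,
        emb_out k B p q (fun h' => hp h'.1)]
    · intro l _ hl
      rw [emb_out k A p l (fun h' => hp h'.1), if_neg (fun h' => hl h'.symm), zero_mul]
    · intro h'; exact absurd (Finset.mem_univ _) h'

theorem emb_uinv (k : ℕ) (h : k + 3 ≤ n) (hn : n = 2 * k + 3) (τ : F →+* F)
    (A : Matrix (Fin 3) (Fin 3) F) :
    uinv τ (emb k A : Matrix (Fin n) (Fin n) F) = emb k (uinv τ A) := by
  ext p q
  rw [uinv_apply]
  by_cases hpq : InW k p ∧ InW k q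
  · obtain ⟨r, rfl⟩ := exists_wi k h hpq.1
    obtain ⟨s, rfl⟩ := exists_wi k h hpq.2
    rw [wi_rev k h hn, wi_rev k h hn, emb_wi, emb_wi, uinv_apply]
  · rw [emb_out k (uinv τ A) p q hpq,
      emb_out k A _ _ (fun h' => hpq ⟨(inW_rev k hn p).mp h'.2, (inW_rev k hn q).mp h'.1⟩)]
    by_cases hpq' : p = q
    · rw [if_pos hpq', if_pos (by rw [hpq']), map_one]
    · rw [if_neg hpq', if_neg (fun h' => hpq' (Fin.rev_injective h').symm), map_zero]

theorem emb_injective (k : ℕ) (h : k + 3 ≤ n) {A B : Matrix (Fin 3) (Fin 3) F}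
    (hAB : (emb k A : Matrix (Fin n) (Fin n) F) = emb k B) : A = B := by
  ext r s
  have := congrFun (congrFun hAB (wi k h r)) (wi k h s)
  rwa [emb_wi, emb_wi] at this

/-- a matrix that is the identity outside the window is an `emb`. -/
theorem eq_emb (k : ℕ) (h : k + 3 ≤ n) (M : Matrix (Fin n) (Fin n) F)
    (hM : ∀ p q, ¬ (InW k p ∧ InW k q) → M p q = if p = q then 1 else 0) :
    M = emb k (Matrix.of fun r s => M (wi k h r) (wi k h s)) := by
  ext p q
  by_cases hpq : InW k p ∧ InW k q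
  · obtain ⟨r, rfl⟩ := exists_wi k h hpq.1
    obtain ⟨s, rfl⟩ := exists_wi k h hpq.2
    rw [emb_wi, Matrix.of_apply]
  · rw [emb_out k _ p q hpq, hM p q hpq]

theorem emb_det_lower (k : ℕ) (h : k + 3 ≤ n) (A : Matrix (Fin 3) (Fin 3) F)
    (hd : ∀ r, A r r = 1) (hl : ∀ r s, r < s → A r s = 0) :
    (emb k A : Matrix (Fin n) (Fin n) F).det = 1 := by
  have hlow : ∀ p q : Fin n, p < q → (emb k A : Matrix (Fin n) (Fin n) F) p q = 0 := by
    intro p q hpq
    by_cases hw : InW k p ∧ InW k q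
    · obtain ⟨r, rfl⟩ := exists_wi k h hw.1
      obtain ⟨s, rfl⟩ := exists_wi k h hw.2
      rw [emb_wi]
      apply hl
      rw [Fin.lt_def, wi_val, wi_val] at hpq
      rw [Fin.lt_def]; omega
    · rw [emb_out k A p q hw, if_neg (ne_of_lt hpq)]
  rw [Matrix.det_of_lowerTriangular _ hlow]
  apply Finset.prod_eq_one
  intro p _
  by_cases hw : InW k p
  · obtain ⟨r, rfl⟩ := exists_wi k h hw
    rw [emb_wi, hd]
  · rw [emb_out k A p p (fun h' => hw h'.1), if_pos rfl]

theorem emb_det_upper (k : ℕ) (h : k + 3 ≤ n) (A : Matrix (Fin 3) (Fin 3) F)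
    (hd : ∀ r, A r r = 1) (hl : ∀ r s, s < r → A r s = 0) :
    (emb k A : Matrix (Fin n) (Fin n) F).det = 1 := by
  have hup : ∀ p q : Fin n, q < p → (emb k A : Matrix (Fin n) (Fin n) F) p q = 0 := by
    intro p q hpq
    by_cases hw : InW k p ∧ InW k q
    · obtain ⟨r, rfl⟩ := exists_wi k h hw.1
      obtain ⟨s, rfl⟩ := exists_wi k h hw.2
      rw [emb_wi]
      apply hl
      rw [Fin.lt_def, wi_val, wi_val] at hpq
      rw [Fin.lt_def]; omega
    · rw [emb_out k A p q hw, if_neg (ne_of_gt hpq)]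
  rw [Matrix.det_of_upperTriangular hup]
  apply Finset.prod_eq_one
  intro p _
  by_cases hw : InW k p
  · obtain ⟨r, rfl⟩ := exists_wi k h hw
    rw [emb_wi, hd]
  · rw [emb_out k A p p (fun h' => hw h'.1), if_pos rfl]

/-! ### window blocks of arbitrary matrices -/

/-- the `3 × 3` window block of a matrix. -/
def blk (k : ℕ) (h : k + 3 ≤ n) (M : Matrix (Fin n) (Fin n) F) : Matrix (Fin 3) (Fin 3) F :=
  Matrix.of fun r s => M (wi k h r) (wi k h s)

theorem blk_apply (k : ℕ) (h : k + 3 ≤ n) (M : Matrix (Fin n) (Fin n) F) (r s : Fin 3) :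
    blk k h M r s = M (wi k h r) (wi k h s) := rfl

theorem blk_upper (k : ℕ) (h : k + 3 ≤ n) (M : Matrix (Fin n) (Fin n) F) (hup : IsUp M)
    (r s : Fin 3) (hrs : s < r) : blk k h M r s = 0 := by
  rw [blk_apply]
  apply hup
  rw [Fin.lt_def, wi_val, wi_val]
  rw [Fin.lt_def] at hrs
  omega

/-- `(M * emb Z)` on the window is `blk M * Z`. -/
theorem mul_emb_wi (k : ℕ) (h : k + 3 ≤ n) (M : Matrix (Fin n) (Fin n) F)
    (Z : Matrix (Fin 3) (Fin 3) F) (r s : Fin 3) :
    (M * (emb k Z : Matrix (Fin n) (Fin n) F)) (wi k h r) (wi k h s) = (blk k h M * Z) r s := by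
  rw [Matrix.mul_apply, Matrix.mul_apply, sum_window k h]
  · apply Finset.sum_congr rfl
    intro l _
    rw [emb_wi, blk_apply]
  · intro l hl
    rw [emb_out k Z l _ (fun h' => hl h'.1)]
    have hne : l ≠ wi k h s := by
      rintro rfl; exact hl (inW_wi k h s)
    rw [if_neg hne, mul_zero]

/-- the window block of an upper triangular unitary matrix is unitary (`n = 2k + 3`). -/
theorem blk_unitary (k : ℕ) (h : k + 3 ≤ n) (hn : n = 2 * k + 3) (τ : F →+* F)
    (M : Matrix (Fin n) (Fin n) F) (hup : IsUp M) (hU : IsU τ M) :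
    uinv τ (blk k h M) * blk k h M = 1 := by
  ext r s
  have h1 := (isU_iff τ M).mp hU (wi k h r) (wi k h s)
  rw [sum_window k h] at h1
  · rw [Matrix.mul_apply, Matrix.one_apply]
    have h2 : (if wi k h r = wi k h s then (1 : F) else 0) = if r = s then 1 else 0 := by
      by_cases hrs : r = s
      · rw [if_pos hrs, if_pos (by rw [hrs])]
      · rw [if_neg hrs, if_neg (fun h' => hrs (wi_injective k h h'))]
    rw [← h2, ← h1]
    apply Finset.sum_congr rfl
    intro l _
    rw [uinv_apply, blk_apply, blk_apply, wi_rev k h hn, wi_rev k h hn]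
  · intro l hl
    unfold InW at hl
    have hl2 := l.2
    have hr2 := r.2
    have hs2 := s.2
    by_cases hlk : l.1 < k
    · have : M (Fin.rev l) (Fin.rev (wi k h r)) = 0 := by
        apply hup
        rw [Fin.lt_def, Fin.val_rev, Fin.val_rev, wi_val]
        omega
      rw [this, map_zero, zero_mul]
    · have : M l (wi k h s) = 0 := by
        apply hup
        rw [Fin.lt_def, wi_val]
        omega
      rw [this, mul_zero]

/-! ### the reflection `swap (wi 0) (wi 2)` -/

theorem swap_wi0 (k : ℕ) (h : k + 3 ≤ n) :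
    Equiv.swap (wi k h 0) (wi k h 2) (wi k h 0) = wi k h 2 := Equiv.swap_apply_left _ _

theorem swap_wi2 (k : ℕ) (h : k + 3 ≤ n) :
    Equiv.swap (wi k h 0) (wi k h 2) (wi k h 2) = wi k h 0 := Equiv.swap_apply_right _ _

theorem swap_wi1 (k : ℕ) (h : k + 3 ≤ n) :
    Equiv.swap (wi k h 0) (wi k h 2) (wi k h 1) = wi k h 1 := by
  apply Equiv.swap_apply_of_ne_of_ne
  · intro h'; have := congrArg Fin.val h'; rw [wi_val, wi_val] at this; simp at this
  · intro h'; have := congrArg Fin.val h'; rw [wi_val, wi_val] at this; simp at this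

theorem swap_out (k : ℕ) (h : k + 3 ≤ n) (p : Fin n) (hp : ¬ InW k p) :
    Equiv.swap (wi k h 0) (wi k h 2) p = p := by
  apply Equiv.swap_apply_of_ne_of_ne
  · rintro rfl; exact hp (inW_wi k h 0)
  · rintro rfl; exact hp (inW_wi k h 2)

/-- the inversions of `swap (wi 0) (wi 2)` lie in the window. -/
theorem inversion_window (k : ℕ) (h : k + 3 ≤ n) (p q : Fin n) (hpq : p < q)
    (hσ : Equiv.swap (wi k h 0) (wi k h 2) q < Equiv.swap (wi k h 0) (wi k h 2) p) :
    ∃ r s : Fin 3, p = wi k h r ∧ q = wi k h s ∧ r < s := by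
  by_cases hp : InW k p
  · by_cases hq : InW k q
    · obtain ⟨r, rfl⟩ := exists_wi k h hp
      obtain ⟨s, rfl⟩ := exists_wi k h hq
      refine ⟨r, s, rfl, rfl, ?_⟩
      rw [Fin.lt_def, wi_val, wi_val] at hpq
      rw [Fin.lt_def]; omega
    · exfalso
      rw [swap_out k h q hq] at hσ
      obtain ⟨r, rfl⟩ := exists_wi k h hp
      have hr := r.2
      unfold InW at hq
      rw [Fin.lt_def, wi_val] at hpq
      have hval : (Equiv.swap (wi k h 0) (wi k h 2) (wi k h r)).1 ≤ k + 2 := by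
        rw [Equiv.swap_apply_def]
        split_ifs <;> simp [wi_val] <;> omega
      rw [Fin.lt_def] at hσ
      omega
  · exfalso
    rw [swap_out k h p hp] at hσ
    by_cases hq : InW k q
    · obtain ⟨s, rfl⟩ := exists_wi k h hq
      have hs := s.2
      unfold InW at hp
      rw [Fin.lt_def, wi_val] at hpq
      have hval : k ≤ (Equiv.swap (wi k h 0) (wi k h 2) (wi k h s)).1 := by
        rw [Equiv.swap_apply_def]
        split_ifs <;> simp [wi_val]
      rw [Fin.lt_def] at hσ
      omega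
    · rw [swap_out k h q hq] at hσ
      exact absurd hpq (not_lt.mpr hσ.le)

/-- the explicit `uinv` of a `3 × 3` matrix. -/
theorem uinv_three (τ : F →+* F) (A : Matrix (Fin 3) (Fin 3) F) :
    uinv τ A = !![τ (A 2 2), τ (A 1 2), τ (A 0 2); τ (A 2 1), τ (A 1 1), τ (A 0 1);
      τ (A 2 0), τ (A 1 0), τ (A 0 0)] := by
  ext r s
  fin_cases r <;> fin_cases s <;> rfl

theorem swap_wi (k : ℕ) (h : k + 3 ≤ n) (r : Fin 3) :
    Equiv.swap (wi k h 0) (wi k h 2) (wi k h r) = wi k h (Fin.rev r) := by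
  fin_cases r
  · exact swap_wi0 k h
  · exact swap_wi1 k h
  · exact swap_wi2 k h

/-- window pairs `r < s` are inversions of `swap (wi 0) (wi 2)`. -/
theorem window_inversion (k : ℕ) (h : k + 3 ≤ n) (r s : Fin 3) (hrs : r < s) :
    wi k h r < wi k h s ∧
      Equiv.swap (wi k h 0) (wi k h 2) (wi k h s) < Equiv.swap (wi k h 0) (wi k h 2) (wi k h r) := by
  have hr := r.2
  have hs := s.2
  rw [swap_wi, swap_wi]
  rw [Fin.lt_def] at hrs
  refine ⟨?_, ?_⟩
  · rw [Fin.lt_def, wi_val, wi_val]; omega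
  · rw [Fin.lt_def, wi_val, wi_val, Fin.val_rev, Fin.val_rev]; omega

end Cfsg.Agent.Helper19.UBNE
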