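import Mathlib
import Cfsg.Agent.Helper95.UBNDefs
import Cfsg.Agent.Helper19.UBNEmb

/-!
# CALL S2546 piece H1C (helper19, double, for helper95): the rank-one factorisation `B = X (B ∩ B^s)`
for the last simple reflection of the odd unitary group.
-/

set_option autoImplicit false

namespace Cfsg.Agent.Helper19.UBN

open Matrix Cfsg.Agent.Helper95.UBN Cfsg.Agent.Helper19.UBNE

variable {F : Type*} [Field F] {n : ℕ}

/-- the last simple reflection for odd `n` is `swap (wi 0) (wi 2)` on the middle window. -/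
theorem sigP_odd_last (j : Fin (n / 2)) (hj : j.1 + 1 = n / 2) (h3 : j.1 + 3 ≤ n)
    (hn2 : n = 2 * j.1 + 3) : sigP j = Equiv.swap (wi j.1 h3 0) (wi j.1 h3 2) := by
  unfold sigP
  rw [if_neg (by omega)]
  have h1 : ia j = wi j.1 h3 0 := by
    apply Fin.ext
    rw [wi_val]
    simp [ia]
  have h2 : ib j = wi j.1 h3 2 := by
    unfold ib
    rw [dif_neg (by omega)]
    apply Fin.ext
    rw [Fin.val_rev, wi_val]
    simp [ia]
    omega
  rw [h1, h2]

/-- the `3 × 3` computation behind H1C. -/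
theorem h1c_three (τ : F →+* F) (hτ : ∀ x, τ (τ x) = x) (G : Matrix (Fin 3) (Fin 3) F)
    (hlow : ∀ r s, s < r → G r s = 0) (hU : uinv τ G * G = 1) :
    ∃ X : Matrix (Fin 3) (Fin 3) F, (∀ r, X r r = 1) ∧ (∀ r s, s < r → X r s = 0) ∧
      uinv τ X * X = 1 ∧ ∀ r s, r < s → (G * uinv τ X) r s = 0 := by
  have e10 : G 1 0 = 0 := hlow 1 0 (by decide)
  have e20 : G 2 0 = 0 := hlow 2 0 (by decide)
  have e21 : G 2 1 = 0 := hlow 2 1 (by decide)
  rw [uinv_three] at hU
  have A1 : τ (G 2 2) * G 0 0 = 1 := by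
    have := congrFun (congrFun hU 0) 0
    simpa [Matrix.mul_apply, Fin.sum_univ_three, e10, e20, e21] using this
  have A5 : τ (G 2 2) * G 0 1 + τ (G 1 2) * G 1 1 = 0 := by
    have := congrFun (congrFun hU 0) 1
    simpa [Matrix.mul_apply, Fin.sum_univ_three, e10, e20, e21] using this
  have A6 : τ (G 2 2) * G 0 2 + τ (G 1 2) * G 1 2 + τ (G 0 2) * G 2 2 = 0 := by
    have := congrFun (congrFun hU 0) 2
    simpa [Matrix.mul_apply, Fin.sum_univ_three, e10, e20, e21] using this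
  have A3 : τ (G 1 1) * G 1 1 = 1 := by
    have := congrFun (congrFun hU 1) 1
    simpa [Matrix.mul_apply, Fin.sum_univ_three, e10, e20, e21] using this
  have A4 : τ (G 1 1) * G 1 2 + τ (G 0 1) * G 2 2 = 0 := by
    have := congrFun (congrFun hU 1) 2
    simpa [Matrix.mul_apply, Fin.sum_univ_three, e10, e20, e21] using this
  have A2 : τ (G 0 0) * G 2 2 = 1 := by
    have := congrFun (congrFun hU 2) 2
    simpa [Matrix.mul_apply, Fin.sum_univ_three, e10, e20, e21] using this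
  set p := G 0 0 with hp
  set b := G 0 1 with hb
  set d := G 0 2 with hd
  set e := G 1 1 with he
  set f := G 1 2 with hf
  set h := G 2 2 with hh
  have hp0 : p ≠ 0 := right_ne_zero_of_mul_eq_one A1
  have hτp0 : τ p ≠ 0 := left_ne_zero_of_mul_eq_one A2
  have B1 : f * τ p + e * τ b = 0 := by
    linear_combination (e * τ p) * A4 - (τ p * f) * A3 - (e * τ b) * A2
  have B2 : τ f * p + τ e * b = 0 := by
    linear_combination (p * τ e) * A5 - (τ e * b) * A1 - (τ f * p) * A3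
  have T : b * τ b + p * τ d + d * τ p = 0 := by
    linear_combination (p * τ p) * A6 - (d * τ p) * A1 - (p * τ d) * A2 - (τ f * p) * B1
      + (e * τ b) * B2 - (b * τ b) * A3
  obtain ⟨t, ht⟩ : ∃ t, t = b / p := ⟨_, rfl⟩
  obtain ⟨v, hv⟩ : ∃ v, v = -(b * τ t + d) / p := ⟨_, rfl⟩
  have hτt : τ t = τ b / τ p := by rw [ht, map_div₀]
  have hτv : τ v = -(τ b * t + τ d) / τ p := by
    rw [hv, map_div₀, map_neg, map_add, map_mul, hτ]
  have hrel : τ v + t * τ t + v = 0 := by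
    rw [hτv, hτt, hv, hτt, ht]
    field_simp
    linear_combination (-1 : F) * T
  have hX : uinv τ !![1, t, τ v; 0, 1, -τ t; 0, 0, 1] = !![1, -t, v; 0, 1, τ t; 0, 0, 1] := by
    rw [uinv_three]
    ext r s
    fin_cases r <;> fin_cases s <;> simp [hτ]
  refine ⟨!![1, t, τ v; 0, 1, -τ t; 0, 0, 1], ?_, ?_, ?_, ?_⟩
  · intro r
    fin_cases r <;> rfl
  · intro r s hrs
    fin_cases r <;> fin_cases s <;> first | rfl | exact absurd hrs (by decide)
  · rw [hX]
    ext r s
    fin_cases r <;> fin_cases s <;> simp [Matrix.mul_apply, Fin.sum_univ_three]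
    linear_combination hrel
  · intro r s hrs
    rw [hX]
    fin_cases r <;> fin_cases s <;> first | exact absurd hrs (by decide) | skip
    · -- (0,1)
      simp [Matrix.mul_apply, Fin.sum_univ_three, ← hp, ← hb, ← hd]
      rw [ht]; field_simp; ring
    · -- (0,2)
      simp [Matrix.mul_apply, Fin.sum_univ_three, ← hp, ← hb, ← hd]
      rw [hv]; field_simp; ring
    · -- (1,2)
      simp [Matrix.mul_apply, Fin.sum_univ_three, ← he, ← hf, e10]
      rw [hτt]; field_simp; linear_combination B1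

-- === PIECE H1C ===
theorem p_H1C (τ : F →+* F) (hτ : ∀ x, τ (τ x) = x) (j : Fin (n / 2)) (hj : j.1 + 1 = n / 2)
    (hn : Odd n)
    (g : Matrix.SpecialLinearGroup (Fin n) F) (hg : g ∈ UG τ n) (hup : IsUp g.1) :
    ∃ x : Matrix.SpecialLinearGroup (Fin n) F, x ∈ UG τ n ∧ XSh (sigP j) x.1 ∧
      ∀ a b, a < b → sigP j b < sigP j a → (g * x⁻¹).1 a b = 0 := by
  classical
  have hodd := Nat.odd_iff.mp hn
  have hn2 : n = 2 * j.1 + 3 := by omega
  have h3 : j.1 + 3 ≤ n := by omega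
  have hσ := sigP_odd_last j hj h3 hn2
  have hgU : IsU τ g.1 := isU_of_mem hg
  obtain ⟨X, hXd, hXl, hXU, hGX⟩ := h1c_three τ hτ (blk j.1 h3 g.1) (blk_upper j.1 h3 g.1 hup)
    (blk_unitary j.1 h3 hn2 τ g.1 hup hgU)
  obtain ⟨x, hxdef⟩ : ∃ x : Matrix.SpecialLinearGroup (Fin n) F, x.1 = emb j.1 X :=
    ⟨⟨emb j.1 X, emb_det_upper j.1 h3 X hXd hXl⟩, rfl⟩
  have hxU : IsU τ x.1 := by
    show uinv τ x.1 * x.1 = 1
    rw [hxdef, emb_uinv j.1 h3 hn2, emb_mul j.1 h3, hXU, emb_one j.1 h3]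
  have hx : x ∈ UG τ n := (mem_UG_iff hτ x).mpr hxU
  refine ⟨x, hx, ⟨?_, ?_⟩, ?_⟩
  · intro p
    rw [hxdef]
    by_cases hp : InW j.1 p
    · obtain ⟨r, rfl⟩ := exists_wi j.1 h3 hp
      rw [emb_wi, hXd]
    · rw [emb_out j.1 X p p (fun h' => hp h'.1), if_pos rfl]
  · intro p q hpq hne
    rw [hxdef] at hne
    by_cases hw : InW j.1 p ∧ InW j.1 q
    · obtain ⟨r, rfl⟩ := exists_wi j.1 h3 hw.1
      obtain ⟨s, rfl⟩ := exists_wi j.1 h3 hw.2
      rw [emb_wi] at hne
      have hrs : r < s := by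
        rcases lt_trichotomy r s with h | h | h
        · exact h
        · exact absurd (by rw [h]) hpq
        · exact absurd (hXl r s h) hne
      rw [hσ]
      exact window_inversion j.1 h3 r s hrs
    · rw [emb_out j.1 X p q hw, if_neg hpq] at hne
      exact absurd rfl hne
  · intro p q hpq hσpq
    rw [hσ] at hσpq
    obtain ⟨r, s, rfl, rfl, hrs⟩ := inversion_window j.1 h3 p q hpq hσpq
    have hinv : (x⁻¹).1 = emb j.1 (uinv τ X) := by
      rw [inv_eq_uinv hx, hxdef, emb_uinv j.1 h3 hn2]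
    show (g.1 * (x⁻¹).1) (wi j.1 h3 r) (wi j.1 h3 s) = 0
    rw [hinv, mul_emb_wi]
    exact hGX r s hrs

end Cfsg.Agent.Helper19.UBN
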