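/-
CALL S2314 (helper40), piece REIDX, by helper19.
The Steinberg character of the induced BN-pair of `P_J`, reindexed over the subsets of `J0`.
-/
import Mathlib
import Cfsg.Agent.Helper40.BNStB

set_option autoImplicit false

namespace Cfsg.Agent.Helper19.UCREIDX

open Cfsg.Agent.Helper6 Cfsg.Agent.Helper40.BNSt Cfsg.Lie

theorem reidx_aux {G : Type*} [Group G] (P : Cfsg.BNPair G) (σ : ℕ → G) (J0 : Finset ℕ)
    (PJ : Subgroup G) (hBle : P.B ≤ PJ) (hσmem : ∀ j ∈ J0, σ j ∈ PJ)
    (Q : Cfsg.BNPair ↥PJ) (hQB : Q.B = P.B.subgroupOf PJ)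
    (hQS : Q.S = {x : ↥PJ | (x : G) ∈ σ '' (J0 : Set ℕ)}) :
    ∃ (r' : ℕ) (σ' : ℕ → ↥PJ),
      Q.S = σ' '' ((Finset.range r' : Finset ℕ) : Set ℕ) ∧
      ∀ x : ↥PJ, stChar Q r' σ' x =
        ∑ K0 ∈ J0.powerset, (-1 : ℂ) ^ K0.card *
          Cfsg.fixedPointCharacter ((P.parabolic (σ '' (K0 : Set ℕ))).subgroupOf PJ) x := by
  classical
  -- the enumeration of `J0`
  let e : ℕ → ℕ := fun k => if h : k < J0.card then (J0.orderEmbOfFin rfl ⟨k, h⟩ : ℕ) else 0
  have he_mem : ∀ k, k < J0.card → e k ∈ J0 := by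
    intro k hk
    simp only [e, dif_pos hk]
    exact Finset.orderEmbOfFin_mem J0 rfl _
  have he_inj : ∀ k, k < J0.card → ∀ k', k' < J0.card → e k = e k' → k = k' := by
    intro k hk k' hk' h
    simp only [e, dif_pos hk, dif_pos hk'] at h
    have := (J0.orderEmbOfFin rfl).injective h
    exact congrArg Fin.val this
  have he_surj : ∀ j ∈ J0, ∃ k, k < J0.card ∧ e k = j := by
    intro j hj
    have : j ∈ Set.range (J0.orderEmbOfFin rfl) := by
      rw [Finset.range_orderEmbOfFin]; exact hj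
    obtain ⟨⟨k, hk⟩, hkj⟩ := this
    exact ⟨k, hk, by simp only [e, dif_pos hk]; exact hkj⟩
  let σ' : ℕ → ↥PJ := fun k => if h : σ (e k) ∈ PJ then ⟨σ (e k), h⟩ else 1
  have hσ'val : ∀ k, k < J0.card → ((σ' k : ↥PJ) : G) = σ (e k) := by
    intro k hk
    simp only [σ', dif_pos (hσmem _ (he_mem k hk))]
  refine ⟨J0.card, σ', ?_, ?_⟩
  · rw [hQS]
    ext x
    simp only [Set.mem_ofPred_eq, Set.mem_image, Finset.coe_range, Set.mem_Iio, Finset.mem_coe]
    constructor
    · rintro ⟨j, hj, hjx⟩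
      obtain ⟨k, hk, rfl⟩ := he_surj j hj
      exact ⟨k, hk, Subtype.ext (by rw [hσ'val k hk, hjx])⟩
    · rintro ⟨k, hk, rfl⟩
      exact ⟨e k, he_mem k hk, (hσ'val k hk).symm⟩
  · intro x
    unfold stChar
    refine Finset.sum_bij (fun K' _ => K'.image e) ?_ ?_ ?_ ?_
    · intro K' hK'
      rw [Finset.mem_powerset] at hK' ⊢
      intro j hj
      obtain ⟨k, hk, rfl⟩ := Finset.mem_image.mp hj
      exact he_mem k (Finset.mem_range.mp (hK' hk))
    · intro K1 hK1 K2 hK2 h
      rw [Finset.mem_powerset] at hK1 hK2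
      ext k
      constructor
      · intro hk
        have : e k ∈ K2.image e := by rw [← h]; exact Finset.mem_image_of_mem e hk
        obtain ⟨k2, hk2, hkk⟩ := Finset.mem_image.mp this
        have := he_inj k2 (Finset.mem_range.mp (hK2 hk2)) k (Finset.mem_range.mp (hK1 hk)) hkk
        rwa [← this]
      · intro hk
        have : e k ∈ K1.image e := by rw [h]; exact Finset.mem_image_of_mem e hk
        obtain ⟨k1, hk1, hkk⟩ := Finset.mem_image.mp this
        have := he_inj k1 (Finset.mem_range.mp (hK1 hk1)) k (Finset.mem_range.mp (hK2 hk)) hkk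
        rwa [← this]
    · intro K0 hK0
      rw [Finset.mem_powerset] at hK0
      refine ⟨(Finset.range J0.card).filter (fun k => e k ∈ K0), ?_, ?_⟩
      · rw [Finset.mem_powerset]; exact Finset.filter_subset _ _
      · ext j
        simp only [Finset.mem_image, Finset.mem_filter, Finset.mem_range]
        constructor
        · rintro ⟨k, ⟨_, hk⟩, rfl⟩; exact hk
        · intro hj
          obtain ⟨k, hk, rfl⟩ := he_surj j (hK0 hj)
          exact ⟨k, ⟨hk, hj⟩, rfl⟩
    · intro K' hK'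
      rw [Finset.mem_powerset] at hK'
      have hcard : (K'.image e).card = K'.card := by
        apply Finset.card_image_of_injOn
        intro k hk k' hk' h
        exact he_inj k (Finset.mem_range.mp (hK' hk)) k' (Finset.mem_range.mp (hK' hk')) h
      rw [hcard]
      have himg : σ '' ((K'.image e : Finset ℕ) : Set ℕ) = PJ.subtype '' (σ' '' (K' : Set ℕ)) := by
        ext g
        simp only [Set.mem_image, Finset.coe_image, Finset.mem_coe, Subgroup.coe_subtype]
        constructor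
        · rintro ⟨j, ⟨k, hk, rfl⟩, rfl⟩
          exact ⟨σ' k, ⟨k, hk, rfl⟩, hσ'val k (Finset.mem_range.mp (hK' hk))⟩
        · rintro ⟨_, ⟨k, hk, rfl⟩, rfl⟩
          exact ⟨e k, ⟨k, hk, rfl⟩, (hσ'val k (Finset.mem_range.mp (hK' hk))).symm⟩
      have hcl : Subgroup.closure (σ '' ((K'.image e : Finset ℕ) : Set ℕ)) =
          (Subgroup.closure (σ' '' (K' : Set ℕ))).map PJ.subtype := by
        rw [himg, MonoidHom.map_closure]
      have hle : Subgroup.closure (σ '' ((K'.image e : Finset ℕ) : Set ℕ)) ≤ PJ := by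
        rw [hcl]
        rintro _ ⟨y, _, rfl⟩
        exact y.2
      have hsub : Q.parabolic (σ' '' (K' : Set ℕ)) =
          (P.parabolic (σ '' ((K'.image e : Finset ℕ) : Set ℕ))).subgroupOf PJ := by
        have h1 : Q.parabolic (σ' '' (K' : Set ℕ)) =
            Q.B ⊔ Subgroup.closure (σ' '' (K' : Set ℕ)) := rfl
        have h2 : P.parabolic (σ '' ((K'.image e : Finset ℕ) : Set ℕ)) =
            P.B ⊔ Subgroup.closure (σ '' ((K'.image e : Finset ℕ) : Set ℕ)) := rfl
        rw [h1, h2, hQB, Subgroup.subgroupOf_sup hBle hle]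
        congr 1
        rw [hcl]
        exact (Subgroup.comap_map_eq_self_of_injective (Subgroup.subtype_injective _) _).symm
      rw [hsub]

/-- REIDX: the Steinberg character of the induced BN-pair of `P_J`, as a sum over the subsets of `J0`. -/
theorem reidx {G : Type*} [Group G] (P : Cfsg.BNPair G) (σ : ℕ → G) (J0 : Finset ℕ)
    (Q : Cfsg.BNPair ↥(P.parabolic (σ '' (J0 : Set ℕ))))
    (hQB : Q.B = P.B.subgroupOf (P.parabolic (σ '' (J0 : Set ℕ))))
    (hQS : Q.S = {x : ↥(P.parabolic (σ '' (J0 : Set ℕ))) | (x : G) ∈ σ '' (J0 : Set ℕ)}) :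
    ∃ (r' : ℕ) (σ' : ℕ → ↥(P.parabolic (σ '' (J0 : Set ℕ)))),
      Q.S = σ' '' ((Finset.range r' : Finset ℕ) : Set ℕ) ∧
      ∀ x : ↥(P.parabolic (σ '' (J0 : Set ℕ))), stChar Q r' σ' x =
        ∑ K0 ∈ J0.powerset, (-1 : ℂ) ^ K0.card *
          Cfsg.fixedPointCharacter
            ((P.parabolic (σ '' (K0 : Set ℕ))).subgroupOf (P.parabolic (σ '' (J0 : Set ℕ)))) x := by
  refine reidx_aux P σ J0 _ le_sup_left ?_ Q hQB hQS
  intro j hj
  exact (le_sup_right : Subgroup.closure (σ '' (J0 : Set ℕ)) ≤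
    P.B ⊔ Subgroup.closure (σ '' (J0 : Set ℕ))) (Subgroup.subset_closure ⟨j, hj, rfl⟩)

end Cfsg.Agent.Helper19.UCREIDX
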